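import Cfsg.Agent.BiChar.SmallTools_m3
import Cfsg.Agent.HNType.Simple
import Cfsg.Agent.SporadicA.MathieuRecog
import Cfsg.Agent.MTwelveType.SylowModel
import Cfsg.Agent.S0364
import Cfsg.Agent.SporRec.J1.Words
import Cfsg.Agent.S1619
import Cfsg.Agent.S1703
import Cfsg.Agent.LeechPack.X100
import Cfsg.Agent.S1695
import Cfsg.Agent.S1627
import Cfsg.Agent.S1074
import Cfsg.Agent.S1694
import Cfsg.Agent.S0402
import Cfsg.Agent.S0403
import Cfsg.Agent.S1700
import Cfsg.Agent.Prune
set_option linter.all false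
prune_inst 0x7f00000000000000000000000000000000000000000000000000000000000000000000000000000000000000000000000000000000000000000000000000000000000000000000000000000000000000003fffffffffffffffffffffffffffbeffbdffffffff
open scoped Cfsg.Agent.FastGrp

/-!
# S1798: sporadic groups, orders (helper23)

`p ^ 4 ∤ |G|` for all odd primes `p` (rows of `KillSmall` and `Sig0Spor`), for all primes `p ≠ 2, 3` (rows of
`ThreeRows`).
-/

set_option autoImplicit false

namespace Cfsg.Agent.BiChar.Small

open Cfsg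

universe u

theorem card_of_iso {X Y : Type*} [Group X] [Group Y] {N : ℕ} (h : Nonempty (X ≃* Y)) (hY : Nat.card Y = N) :
    Nat.card X = N := by
  obtain ⟨e⟩ := h
  rw [Nat.card_congr e.toEquiv, hY]

/-! ### Conway's groups -/

theorem sqNorm_leechU : sqNorm (Spor.leechU : GolayPt → ℤ) = 32 := by
  show sqNorm Spor.vecU = 32
  decide +kernel

theorem sqNorm_leechV : sqNorm (Spor.leechV : GolayPt → ℤ) = 48 := by
  show sqNorm Spor.vecV = 48
  decide +kernel

theorem card_stab_eq (v : leechLattice) :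
    Nat.card ↥(Co0 ⊓ MulAction.stabilizer (Equiv.Perm leechLattice) v) = Nat.card ↥(MulAction.stabilizer Co0 v) := by
  have h : (MulAction.stabilizer Co0 v).map Co0.subtype = Co0 ⊓ MulAction.stabilizer (Equiv.Perm leechLattice) v := by
    ext g
    constructor
    · rintro ⟨h, hh, rfl⟩
      exact ⟨h.2, hh⟩
    · rintro ⟨h1, h2⟩
      exact ⟨⟨g, h1⟩, h2, rfl⟩
  rw [← h, Subgroup.card_map_of_injective Co0.subtype_injective]

theorem card_Co2 : Nat.card Spor.Co2 = 42305421312000 :=
  (card_stab_eq Spor.leechU).trans (S0402.result Spor.leechU sqNorm_leechU).2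

theorem card_Co3 : Nat.card Spor.Co3 = 495766656000 :=
  (card_stab_eq Spor.leechV).trans (S0403.result Spor.leechV sqNorm_leechV).2

theorem card_HS : Nat.card Spor.HS = 44352000 := by
  rw [← LeechPack.X100.map_G2, Subgroup.card_map_of_injective Co0.subtype_injective]
  exact LeechPack.X100.card_G2

/-! ### `p ^ 4 ∤ |G|` for all odd primes `p` -/

theorem kill_m11 : Kill.{u} (fun X _ => Spor.IsoM11 X) :=
  kill_of_card_eq (N := 7920) (fun _ _ h => card_of_iso h HNType.Alt.card_M11)
    (not_four_dvd 4 3 [3, 5, 11] (by norm_num) (by simp only [List.forall_mem_cons]; norm_num))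

theorem kill_m12 : Kill.{u} (fun X _ => Spor.IsoM12 X) :=
  kill_of_card_eq (N := 95040) (fun _ _ h => card_of_iso h MTwelveType.SylowModel.card_M12)
    (not_four_dvd 6 3 [3, 5, 11] (by norm_num) (by simp only [List.forall_mem_cons]; norm_num))

theorem kill_m22 : Kill.{u} (fun X _ => Spor.IsoM22 X) :=
  kill_of_card_eq (N := 443520) (fun _ _ h => card_of_iso h SporadicA.MathieuRecog.card_M22)
    (not_four_dvd 7 3 [3, 5, 7, 11] (by norm_num) (by simp only [List.forall_mem_cons]; norm_num))

theorem kill_m23 : Kill.{u} (fun X _ => Spor.IsoM23 X) :=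
  kill_of_card_eq (N := 10200960) (fun _ _ h => card_of_iso h SporadicA.MathieuRecog.card_M23)
    (not_four_dvd 7 3 [3, 5, 7, 11, 23] (by norm_num) (by simp only [List.forall_mem_cons]; norm_num))

theorem kill_m24 : Kill.{u} (fun X _ => Spor.IsoM24 X) :=
  kill_of_card_eq (N := 244823040) (fun _ _ h => card_of_iso h S0364.result)
    (not_four_dvd 10 3 [3, 5, 7, 11, 23] (by norm_num) (by simp only [List.forall_mem_cons]; norm_num))

theorem kill_j1 : Kill.{u} (fun X _ => Spor.IsoJ1 X) :=
  kill_of_card_eq (N := 175560) (fun _ _ h => card_of_iso h SporRec.J1.Words.card_J1)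
    (not_four_dvd 3 3 [3, 5, 7, 11, 19] (by norm_num) (by simp only [List.forall_mem_cons]; norm_num))

theorem kill_j2 : Kill.{u} (fun X _ => Spor.IsoJ2 X) :=
  kill_of_card_eq (N := 604800) (fun _ _ h => card_of_iso h S1619.result.2.2.2)
    (not_four_dvd 7 3 [3, 5, 7] (by norm_num) (by simp only [List.forall_mem_cons]; norm_num))

theorem kill_j4 : Kill.{u} (fun X _ => Spor.IsoJ4 X) :=
  kill_of_card_eq (N := 86775571046077562880) (fun _ _ h => card_of_iso h S1703.result.2)
    (not_four_dvd 21 3 [3, 5, 7, 11, 23, 29, 31, 37, 43] (by norm_num)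
      (by simp only [List.forall_mem_cons]; norm_num))

theorem kill_hs : Kill.{u} (fun X _ => Spor.IsoHS X) :=
  kill_of_card_eq (N := 44352000) (fun _ _ h => card_of_iso h card_HS)
    (not_four_dvd 9 3 [3, 5, 7, 11] (by norm_num) (by simp only [List.forall_mem_cons]; norm_num))

theorem kill_he : Kill.{u} (fun X _ => Spor.IsoHe X) :=
  kill_of_card_eq (N := 4030387200) (fun _ _ h => card_of_iso h S1695.result.2)
    (not_four_dvd 10 3 [3, 5, 7, 17] (by norm_num) (by simp only [List.forall_mem_cons]; norm_num))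

theorem kill_ru : Kill.{u} (fun X _ => Spor.IsoRu X) :=
  kill_of_card_eq (N := 145926144000) (fun _ _ h => card_of_iso h S1627.result.2.1)
    (not_four_dvd 14 3 [3, 5, 7, 13, 29] (by norm_num) (by simp only [List.forall_mem_cons]; norm_num))

theorem card_Tits : Nat.card Lie.TitsGroup = 17971200 := S1074.result.2.2.2.trans (by norm_num)

theorem card_of_isoTits {K : Type*} [Group K] (h : Lie.IsoTits K) : Nat.card K = 17971200 := by
  obtain ⟨e⟩ := h
  rw [Nat.card_congr e.toEquiv, card_Tits]

/-! ### `p ^ 4 ∤ |G|` for all primes `p ≠ 2, 3` -/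

theorem nd_co2 : ∀ p : ℕ, p.Prime → p ≠ 2 → p ≠ 3 → ¬ p ^ 4 ∣ 42305421312000 :=
  not_four_dvd_three 18 3 [5, 7, 11, 23] (by norm_num) (by simp only [List.forall_mem_cons]; norm_num)

theorem nd_co3 : ∀ p : ℕ, p.Prime → p ≠ 2 → p ≠ 3 → ¬ p ^ 4 ∣ 495766656000 :=
  not_four_dvd_three 18 3 [5, 7, 11, 23] (by norm_num) (by simp only [List.forall_mem_cons]; norm_num)

theorem nd_suz : ∀ p : ℕ, p.Prime → p ≠ 2 → p ≠ 3 → ¬ p ^ 4 ∣ 448345497600 :=
  not_four_dvd_three 18 3 [5, 7, 11, 13] (by norm_num) (by simp only [List.forall_mem_cons]; norm_num)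

theorem nd_th : ∀ p : ℕ, p.Prime → p ≠ 2 → p ≠ 3 → ¬ p ^ 4 ∣ 90745943887872000 :=
  not_four_dvd_three 18 3 [5, 7, 13, 19, 31] (by norm_num) (by simp only [List.forall_mem_cons]; norm_num)

theorem card_of_isoCo2 {K : Type*} [Group K] (h : Spor.IsoCo2 K) : Nat.card K = 42305421312000 :=
  card_of_iso h card_Co2

theorem card_of_isoCo3 {K : Type*} [Group K] (h : Spor.IsoCo3 K) : Nat.card K = 495766656000 :=
  card_of_iso h card_Co3

theorem card_of_isoSuz {K : Type*} [Group K] (h : Spor.IsoSuz K) : Nat.card K = 448345497600 :=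
  card_of_iso h S1694.result.2

theorem card_of_isoTh {K : Type*} [Group K] (h : Spor.IsoTh K) : Nat.card K = 90745943887872000 :=
  card_of_iso h S1700.result.2

theorem three_co2 : Three.{u} (fun X _ => Spor.IsoCo2 X) := three_of_card_eq (fun _ _ h => card_of_isoCo2 h) nd_co2

theorem three_co3 : Three.{u} (fun X _ => Spor.IsoCo3 X) :=
  three_of_card_eq (fun _ _ h => card_of_isoCo3 h) nd_co3

theorem three_suz : Three.{u} (fun X _ => Spor.IsoSuz X) := three_of_card_eq (fun _ _ h => card_of_isoSuz h) nd_suz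

theorem three_th : Three.{u} (fun X _ => Spor.IsoTh X) := three_of_card_eq (fun _ _ h => card_of_isoTh h) nd_th

end Cfsg.Agent.BiChar.Small
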