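import Cfsg.Prelude.Def_EvenType
import Cfsg.Agent.Lib.CoprimeHyperplane
import Cfsg.Agent.FastGrp
import Cfsg.Agent.Prune
set_option linter.all false
prune_inst 0x7f00000000000000000000000000000000000000000000000000000000000000000000000000000000000000000000000000000000000000000000000000000000000000000000000000000000000000003fffffffffffffffffffffffffffbeffbdffffffff
open scoped Cfsg.Agent.FastGrp

/-!
# S1798: base of the small rows (helper23)

* `not_atLeast_of_not_dvd` : `p ^ k ∤ |G|` excludes `PRankAtLeast p k G`;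
* `not_atLeast_of_nonabelian` : the same when `|G|_p = p ^ k` and some `p`-subgroup is not abelian;
* `exists_of_not_twoLocal` : if some 2-local subgroup has `p`-rank more than `k ≥ 1`, then either an elementary
  abelian `p`-subgroup of order at least `p ^ (k + 1)` centralizes an involution, or an elementary abelian
  `p`-subgroup of order at least `p ^ k` centralizes two different commuting involutions.
-/

set_option autoImplicit false

namespace Cfsg.Agent.BiChar.Small

open Cfsg Subgroup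

variable {G : Type*} [Group G]

theorem isPGroup_of_pow {p : ℕ} {A : Subgroup G} (h : ∀ a ∈ A, a ^ p = 1) : IsPGroup p A := fun a =>
  ⟨1, Subtype.ext (by rw [pow_one]; simpa using h a a.2)⟩

/-- the order of a subgroup of exponent `p` and of order at least `p ^ k` is divisible by `p ^ k` -/
theorem pow_dvd_of_le [Finite G] {p k : ℕ} (hp : p.Prime) {A : Subgroup G} (h : ∀ a ∈ A, a ^ p = 1)
    (hk : p ^ k ≤ Nat.card A) : p ^ k ∣ Nat.card A := by
  have : Fact p.Prime := ⟨hp⟩
  obtain ⟨n, hn⟩ := IsPGroup.iff_card.1 (isPGroup_of_pow h)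
  rw [hn] at hk ⊢
  exact pow_dvd_pow p ((Nat.pow_le_pow_iff_right hp.one_lt).1 hk)

theorem not_atLeast_of_not_dvd [Finite G] {p k : ℕ} (hp : p.Prime) (h : ¬ p ^ k ∣ Nat.card G) :
    ¬ PRankAtLeast p k G := by
  rintro ⟨A, -, hA, hk⟩
  exact h ((pow_dvd_of_le hp hA hk).trans (card_subgroup_dvd_card A))

/-- `|G|_p = p ^ k` and some `p`-subgroup of `G` is not abelian -/
theorem not_atLeast_of_nonabelian [Finite G] {p k : ℕ} (hp : p.Prime) (h : ¬ p ^ (k + 1) ∣ Nat.card G)
    (P : Subgroup G) (hP : IsPGroup p P) {x y : G} (hx : x ∈ P) (hy : y ∈ P) (hxy : x * y ≠ y * x) :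
    ¬ PRankAtLeast p k G := by
  have : Fact p.Prime := ⟨hp⟩
  rintro ⟨A, hAc, hA, hk⟩
  obtain ⟨n, hn⟩ := IsPGroup.iff_card.1 (isPGroup_of_pow hA)
  have hkn : k ≤ n := by
    rw [hn] at hk
    exact (Nat.pow_le_pow_iff_right hp.one_lt).1 hk
  -- `A` is a Sylow subgroup
  obtain ⟨S, hS⟩ := (isPGroup_of_pow hA).exists_le_sylow
  obtain ⟨m, hm⟩ := IsPGroup.iff_card.1 S.2
  have hm' : m ≤ k := by
    by_contra hcon
    push Not at hcon
    refine h ((pow_dvd_pow p hcon).trans ?_)
    have h1 : Nat.card (S : Subgroup G) = p ^ m := hm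
    rw [← h1]
    exact card_subgroup_dvd_card _
  have hAS : A = S := by
    refine eq_of_le_of_card_ge hS ?_
    rw [hn]
    have h1 : Nat.card (S : Subgroup G) = p ^ m := hm
    rw [h1]
    exact Nat.pow_le_pow_right hp.pos (hm'.trans hkn)
  obtain ⟨T, hT⟩ := hP.exists_le_sylow
  obtain ⟨g, hg⟩ := MulAction.exists_smul_eq G T S
  have hmem : ∀ w ∈ P, g * w * g⁻¹ ∈ A := by
    intro w hw
    rw [hAS, ← hg]
    exact smul_mem_pointwise_smul w (MulAut.conj g) (T : Subgroup G) (hT hw)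
  have h1 : (g * x * g⁻¹) * (g * y * g⁻¹) = (g * y * g⁻¹) * (g * x * g⁻¹) := by
    have := hAc.is_comm.comm ⟨_, hmem x hx⟩ ⟨_, hmem y hy⟩
    exact congrArg Subtype.val this
  apply hxy
  have h2 : g * (x * y) * g⁻¹ = g * (y * x) * g⁻¹ := by
    calc g * (x * y) * g⁻¹ = (g * x * g⁻¹) * (g * y * g⁻¹) := by group
      _ = (g * y * g⁻¹) * (g * x * g⁻¹) := h1
      _ = g * (y * x) * g⁻¹ := by group
  exact mul_left_cancel (mul_right_cancel h2)

/-- a nontrivial 2-subgroup normalized by an elementary abelian `p`-subgroup `E` of order at least `p ^ (k + 1)`,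
`k ≥ 1`, contains an involution centralized by a subgroup `B` of `E` of index `p`; if `E` has no fixed point in this
2-subgroup then `B` centralizes two different commuting involutions of it -/
theorem exists_of_normalizes [Finite G] {p k : ℕ} (hp : p.Prime) (hp2 : p ≠ 2) {E T : Subgroup G}
    (hE : IsElementaryAbelian p E) (hcard : p ^ (k + 1) ≤ Nat.card E) (hT : IsPGroup 2 T) (hT1 : T ≠ ⊥)
    (hn : E ≤ normalizer (T : Set G)) :
    (∃ t ∈ T, orderOf t = 2 ∧ ∀ e ∈ E, e * t = t * e) ∨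
    ∃ B : Subgroup G, B ≤ E ∧ p ^ k ≤ Nat.card B ∧ ∃ t ∈ T, ∃ u ∈ T, orderOf t = 2 ∧ orderOf u = 2 ∧ t ≠ u ∧
      t * u = u * t ∧ ∀ b ∈ B, b * t = t * b ∧ b * u = u * b := by
  have hp' : Fact p.Prime := ⟨hp⟩
  have h2' : Fact (Nat.Prime 2) := ⟨Nat.prime_two⟩
  have hE1 : E ≠ ⊥ := by
    rintro rfl
    rw [card_bot] at hcard
    exact absurd (Nat.one_lt_pow (Nat.succ_ne_zero k) hp.one_lt) (not_lt.2 hcard)
  have hpT : ¬ p ∣ Nat.card T := by
    obtain ⟨n, hn⟩ := IsPGroup.iff_card.1 hT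
    rw [hn]
    intro h
    exact hp2 ((Nat.prime_dvd_prime_iff_eq hp Nat.prime_two).1 (hp.dvd_of_dvd_pow h))
  have hgen := Lib.CoprimeHyperplane.iSup_centralizer_hyperplane hE hE1 hpT hn
  -- some hyperplane `B` has a nontrivial centralizer in `T`
  obtain ⟨B, hB1⟩ : ∃ B : {B : Subgroup G // B ≤ E ∧ B.relIndex E = p},
      T ⊓ centralizer ((B : Subgroup G) : Set G) ≠ ⊥ := by
    by_contra hcon
    push Not at hcon
    apply hT1
    rw [← hgen]
    exact iSup_eq_bot.2 hcon
  obtain ⟨B, hBE, hBi⟩ := B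
  have hEc : ∀ a ∈ E, ∀ b ∈ E, a * b = b * a := fun a ha b hb => by
    have := hE.1.is_comm.comm (⟨a, ha⟩ : E) ⟨b, hb⟩
    exact congrArg Subtype.val this
  set T1 : Subgroup G := T ⊓ centralizer (B : Set G) with hT1def
  have hBc : p ^ k ≤ Nat.card B := by
    have h1 := relIndex_mul_relIndex ⊥ B E bot_le hBE
    rw [relIndex_bot_left, relIndex_bot_left, hBi] at h1
    rw [← h1, pow_succ] at hcard
    exact Nat.le_of_mul_le_mul_right hcard hp.pos
  have hT1p : IsPGroup 2 T1 := hT.to_le inf_le_left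
  by_cases hC : T ⊓ centralizer (E : Set G) = ⊥
  · right
    have hnt : Nontrivial T1 := nontrivial_iff_ne_bot _ |>.2 hB1
    have hfin : Finite T1 := inferInstance
    have hzn : Nontrivial (center T1) := hT1p.center_nontrivial
    have h2 : 2 ∣ Nat.card (center T1) := by
      obtain ⟨n, hn⟩ := IsPGroup.iff_card.1 (hT1p.to_subgroup (center T1))
      rw [hn]
      refine dvd_pow_self 2 ?_
      rintro rfl
      rw [pow_zero] at hn
      exact absurd (Finite.one_lt_card (α := center T1)) (by rw [hn]; exact lt_irrefl 1)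
    obtain ⟨⟨⟨t, htT1⟩, htZ⟩, ht⟩ := exists_prime_orderOf_dvd_card' 2 h2
    have ht2 : orderOf t = 2 := by
      rw [← ht]
      simp
    have htc : ∀ x ∈ T1, x * t = t * x := fun x hx => by
      have := mem_center_iff.1 htZ ⟨x, hx⟩
      exact congrArg Subtype.val this
    have htT : t ∈ T := htT1.1
    obtain ⟨e, heE, he⟩ : ∃ e ∈ E, e * t * e⁻¹ ≠ t := by
      by_contra hcon
      push Not at hcon
      have : t ∈ T ⊓ centralizer (E : Set G) := ⟨htT, mem_centralizer_iff.2 fun x hx => by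
        have := hcon x hx
        rw [mul_inv_eq_iff_eq_mul] at this
        exact this⟩
      rw [hC, mem_bot] at this
      rw [this, orderOf_one] at ht2
      exact absurd ht2 (by norm_num)
    have hbc : ∀ x ∈ T1, ∀ b ∈ B, b * x = x * b := fun x hx b hb => mem_centralizer_iff.1 hx.2 b hb
    have huT1 : e * t * e⁻¹ ∈ T1 := by
      refine ⟨(mem_normalizer_iff.1 (hn heE) t).1 htT, mem_centralizer_iff.2 fun b hb => ?_⟩
      have h3 := hEc b (hBE hb) e heE
      have h4 : b * t = t * b := hbc t htT1 b hb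
      calc b * (e * t * e⁻¹) = (b * e) * t * e⁻¹ := by group
        _ = e * (b * t) * e⁻¹ := by rw [h3]; group
        _ = e * t * (b * e⁻¹) := by rw [h4]; group
        _ = e * t * e⁻¹ * (e * b) * e⁻¹ := by group
        _ = e * t * e⁻¹ * (b * e) * e⁻¹ := by rw [h3]
        _ = e * t * e⁻¹ * b := by group
    refine ⟨B, hBE, hBc, t, htT, e * t * e⁻¹, huT1.1, ht2, ?_, he.symm, (htc _ huT1).symm, fun b hb =>
      ⟨hbc t htT1 b hb, hbc _ huT1 b hb⟩⟩
    rw [← ht2]
    exact (SemiconjBy.orderOf_eq e (show SemiconjBy e t (e * t * e⁻¹) by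
      show e * t = e * t * e⁻¹ * e
      group)).symm
  · left
    have hnt : Nontrivial ↥(T ⊓ centralizer (E : Set G)) := nontrivial_iff_ne_bot _ |>.2 hC
    have h2 : 2 ∣ Nat.card ↥(T ⊓ centralizer (E : Set G)) := by
      obtain ⟨n, hn⟩ := IsPGroup.iff_card.1 (hT.to_le (inf_le_left : T ⊓ centralizer (E : Set G) ≤ T))
      rw [hn]
      refine dvd_pow_self 2 ?_
      rintro rfl
      rw [pow_zero] at hn
      exact absurd (Finite.one_lt_card (α := ↥(T ⊓ centralizer (E : Set G)))) (by rw [hn]; exact lt_irrefl 1)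
    obtain ⟨⟨t, ht1⟩, ht⟩ := exists_prime_orderOf_dvd_card' 2 h2
    refine ⟨t, ht1.1, ?_, fun e he => mem_centralizer_iff.1 ht1.2 e he⟩
    rw [← ht]
    simp

/-- the criterion for `TwoLocalPRankLE p k G` -/
theorem twoLocal_le [Finite G] {p k : ℕ} (hp : p.Prime) (hp2 : p ≠ 2)
    (h1 : ∀ t : G, orderOf t = 2 → ∀ E : Subgroup G, IsElementaryAbelian p E → p ^ (k + 1) ≤ Nat.card E →
      (∀ e ∈ E, e * t = t * e) → False)
    (h2 : ∀ t u : G, orderOf t = 2 → orderOf u = 2 → t ≠ u → t * u = u * t → ∀ B : Subgroup G,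
      IsElementaryAbelian p B → p ^ k ≤ Nat.card B → (∀ b ∈ B, b * t = t * b) → (∀ b ∈ B, b * u = u * b) → False) :
    TwoLocalPRankLE p k G := by
  rintro H ⟨T, hT, hT1, rfl⟩ A hA hAp
  by_contra hcon
  push Not at hcon
  have hp' : Fact p.Prime := ⟨hp⟩
  set E : Subgroup G := A.map (normalizer (T : Set G)).subtype with hEdef
  have hE : IsElementaryAbelian p E := by
    refine ⟨⟨⟨?_⟩⟩, ?_⟩
    · rintro ⟨_, a, ha, rfl⟩ ⟨_, b, hb, rfl⟩
      have := hA.is_comm.comm (⟨a, ha⟩ : A) ⟨b, hb⟩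
      exact Subtype.ext (congrArg (fun x : A => ((x : normalizer (T : Set G)) : G)) this)
    · rintro _ ⟨a, ha, rfl⟩
      rw [← map_pow, hAp a ha, map_one]
  have hc : p ^ (k + 1) ≤ Nat.card E := by
    rw [card_map_of_injective (subtype_injective _)]
    obtain ⟨n, hn⟩ := IsPGroup.iff_card.1 (isPGroup_of_pow hAp)
    rw [hn] at hcon ⊢
    exact Nat.pow_le_pow_right hp.pos ((Nat.pow_lt_pow_iff_right hp.one_lt).1 hcon)
  have hn : E ≤ normalizer (T : Set G) := by
    rintro _ ⟨a, -, rfl⟩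
    exact a.2
  rcases exists_of_normalizes hp hp2 hE hc hT hT1 hn with ⟨t, -, ht, hte⟩ | ⟨B, hBE, hBc, t, -, u, -, ht, hu, htu, hc', hb⟩
  · exact h1 t ht E hE hc hte
  · refine h2 t u ht hu htu hc' B ⟨⟨⟨fun a b => ?_⟩⟩, fun b hb => hE.2 b (hBE hb)⟩ hBc (fun b hb' => (hb b hb').1)
      (fun b hb' => (hb b hb').2)
    have h3 := hE.1.is_comm.comm (⟨a, hBE a.2⟩ : E) ⟨b, hBE b.2⟩
    have h4 : (a : G) * b = b * a := congrArg Subtype.val h3
    exact Subtype.ext h4

/-- if `p ^ k` divides the order of no involution centralizer then all 2-local subgroups have `p`-rank at most `k` -/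
theorem twoLocal_le_of_card [Finite G] {p k : ℕ} (hp : p.Prime) (hp2 : p ≠ 2)
    (h : ∀ t : G, orderOf t = 2 → ¬ p ^ k ∣ Nat.card (centralizer ({t} : Set G))) : TwoLocalPRankLE p k G := by
  have key : ∀ t : G, orderOf t = 2 → ∀ E : Subgroup G, IsElementaryAbelian p E → p ^ k ≤ Nat.card E →
      (∀ e ∈ E, e * t = t * e) → False := by
    intro t ht E hE hc hte
    refine h t ht ((pow_dvd_of_le hp hE.2 hc).trans (card_dvd_of_le fun e he => ?_))
    exact mem_centralizer_singleton_iff.2 (hte e he)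
  refine twoLocal_le hp hp2 (fun t ht E hE hc hte => key t ht E hE ?_ hte) fun t u ht _ _ _ B hB hc hbt _ =>
    key t ht B hB hc hbt
  exact (Nat.pow_le_pow_right hp.pos (Nat.le_succ k)).trans hc

end Cfsg.Agent.BiChar.Small
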