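import Cfsg.Prelude.Def_EvenType
import Cfsg.Prelude.Def_SevenCases
import Cfsg.Agent.SigTab.RestList_m3
import Cfsg.Agent.BiChar.SmallBase
import Cfsg.Agent.Sigma.Pair
import Mathlib
import Cfsg.Agent.SigZeroU5.Symp
import Cfsg.Agent.LieClassical.OrthCenter
import Cfsg.Agent.LieClassical.OrthForms
import Cfsg.Agent.FastGrp
import Cfsg.Agent.Prune
set_option linter.all false

section
prune_inst 0x7f00000000000000000000000000000000000000000000000000000000000000000000000000000000000000000000000000000000000000000000000000000000000000000000000000000000000000003fffffffffffffffffffffffffffbeffbdfbfeffff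

section
prune_inst 0x4010000

-- part: Sigma/Base
section
set_option linter.all false
open scoped Cfsg.Agent.FastGrp

/-!
# Witnesses for `p ∈ σ(G)`

`Wit p G` : some nontrivial 2-subgroup `Q` of `G` is normalized by an elementary abelian `p`-subgroup of order at
least `p ^ 4`, and by a subgroup of index at most two of some Sylow 2-subgroup of `G`.

* `Wit.mem_sigma` : `Wit p G → p ∈ sigmaSet G`;
* `Wit.map` : images under surjective homomorphisms;
* `Wit.congr` : transport along isomorphisms.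
-/

set_option autoImplicit false

namespace Cfsg.Agent.Sigma

open Cfsg Subgroup

/-- `Wit p G`, see above. -/
def Wit (p : ℕ) (G : Type*) [Group G] : Prop :=
  ∃ (S : Sylow 2 G) (Q E : Subgroup G), IsPGroup 2 ↥Q ∧ Q ≠ ⊥ ∧ IsMulCommutative E ∧ (∀ a ∈ E, a ^ p = 1) ∧
    p ^ 4 ≤ Nat.card ↥E ∧ E ≤ normalizer (Q : Set G) ∧ (normalizer (Q : Set G)).relIndex (S : Subgroup G) ≤ 2

/-- A 2-local subgroup of a finite group lies in a maximal one. -/
theorem exists_maximal_twoLocal {G : Type*} [Group G] [Finite G] {N : Subgroup G} (hN : IsTwoLocal N) :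
    ∃ M : Subgroup G, IsMaximalTwoLocal M ∧ N ≤ M := by
  have hfin : {M : Subgroup G | IsTwoLocal M ∧ N ≤ M}.Finite := Set.toFinite _
  obtain ⟨M, hM⟩ := hfin.exists_maximal ⟨N, hN, le_rfl⟩
  refine ⟨M, ⟨hM.prop.1, fun K hK hMK => ?_⟩, hM.prop.2⟩
  exact le_antisymm (hM.le_of_ge ⟨hK, hM.prop.2.trans hMK⟩ hMK) hMK

theorem pRankAtLeast_of_le {G : Type*} [Group G] {p k : ℕ} {E M : Subgroup G} (hE : IsMulCommutative E)
    (hp : ∀ a ∈ E, a ^ p = 1) (hc : p ^ k ≤ Nat.card ↥E) (hEM : E ≤ M) : PRankAtLeast p k ↥M := by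
  refine ⟨E.subgroupOf M, ⟨⟨?_⟩⟩, ?_, ?_⟩
  · rintro ⟨⟨a, haM⟩, ha⟩ ⟨⟨b, hbM⟩, hb⟩
    have h1 := hE.is_comm.comm ⟨a, ha⟩ ⟨b, hb⟩
    have h2 : a * b = b * a := congrArg Subtype.val h1
    apply Subtype.ext
    apply Subtype.ext
    exact h2
  · rintro ⟨a, haM⟩ ha
    apply Subtype.ext
    exact hp a ha
  · have h1 : Nat.card ↥(E.subgroupOf M) = Nat.card ↥E := Nat.card_congr (subgroupOfEquivOfLe hEM).toEquiv
    rw [h1]
    exact hc

/-- **`Wit p G` gives `p ∈ σ(G)`.** -/
theorem Wit.mem_sigma {G : Type*} [Group G] [Finite G] {p : ℕ} (h : Wit p G) (hp : p.Prime) (hp2 : p ≠ 2) :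
    p ∈ sigmaSet G := by
  obtain ⟨S, Q, E, hQ, hQ1, hE, hEp, hEc, hEN, hS⟩ := h
  obtain ⟨M, hM, hNM⟩ := exists_maximal_twoLocal (N := normalizer (Q : Set G)) ⟨Q, hQ, hQ1, rfl⟩
  refine ⟨hp, hp2, S, M, ⟨hM, ?_⟩, pRankAtLeast_of_le hE hEp hEc (hEN.trans hNM)⟩
  exact (relIndex_le_of_le_left hNM index_ne_zero_of_finite).trans hS

/-- `Wit` from a surjective homomorphism `f : X →* G` and data in `X`. -/
theorem Wit.of_hom {X G : Type*} [Group X] [Finite X] [Group G] {p : ℕ} (f : X →* G)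
    (hf : Function.Surjective f) (S : Sylow 2 X) (Q E : Subgroup X) (hQ : IsPGroup 2 ↥Q)
    (hQ1 : Q.map f ≠ ⊥) (hE : IsMulCommutative ↥(E.map f)) (hEp : ∀ a ∈ E, f a ^ p = 1)
    (hEc : p ^ 4 ≤ Nat.card ↥(E.map f)) (hEN : E ≤ normalizer (Q : Set X))
    (hS : (normalizer (Q : Set X)).relIndex (S : Subgroup X) ≤ 2) : Wit p G := by
  have hN : (normalizer (Q : Set X)).map f ≤ normalizer ((Q.map f : Subgroup G) : Set G) := by
    rintro _ ⟨n, hn, rfl⟩
    rw [mem_normalizer_iff]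
    intro x
    constructor
    · rintro ⟨y, hy, rfl⟩
      refine ⟨n * y * n⁻¹, (mem_normalizer_iff.1 hn y).1 hy, by simp⟩
    · rintro ⟨y, hy, hyx⟩
      refine ⟨n⁻¹ * y * n, ?_, ?_⟩
      · have := (mem_normalizer_iff.1 hn (n⁻¹ * y * n)).2 (by
          have e : n * (n⁻¹ * y * n) * n⁻¹ = y := by group
          rw [e]; exact hy)
        exact this
      · rw [map_mul, map_mul, map_inv, hyx]
        group
  refine ⟨S.mapSurjective hf, Q.map f, E.map f, hQ.map f, hQ1, hE, ?_, hEc, (map_mono hEN).trans hN, ?_⟩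
  · rintro _ ⟨a, ha, rfl⟩
    exact hEp a ha
  · have h1 : ((S.mapSurjective hf : Sylow 2 G) : Subgroup G) = (S : Subgroup X).map f := rfl
    rw [h1, ← relIndex_comap]
    exact (relIndex_le_of_le_left (map_le_iff_le_comap.1 hN) index_ne_zero_of_finite).trans hS

/-- Transport along an isomorphism. -/
theorem Wit.congr {G H : Type*} [Group G] [Group H] [Finite G] {p : ℕ} (e : G ≃* H) (h : Wit p G) : Wit p H := by
  obtain ⟨S, Q, E, hQ, hQ1, hE, hEp, hEc, hEN, hS⟩ := h
  refine Wit.of_hom e.toMonoidHom e.surjective S Q E hQ ?_ ?_ ?_ ?_ hEN hS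
  · intro h0
    exact hQ1 ((Subgroup.map_eq_bot_iff_of_injective _ e.injective).1 h0)
  · refine ⟨⟨?_⟩⟩
    rintro ⟨_, a, ha, rfl⟩ ⟨_, b, hb, rfl⟩
    have h1 := hE.is_comm.comm ⟨a, ha⟩ ⟨b, hb⟩
    have h2 : a * b = b * a := congrArg Subtype.val h1
    apply Subtype.ext
    change e a * e b = e b * e a
    rw [← map_mul, h2, map_mul]
  · intro a ha
    change e a ^ p = 1
    rw [← map_pow, hEp a ha, map_one]
  · have h1 : Nat.card ↥(E.map e.toMonoidHom) = Nat.card ↥E := Subgroup.card_map_of_injective e.injective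
    rw [h1]
    exact hEc

/-- The case of a torus: a Sylow 2-subgroup `S ≠ 1` of `X` normalized by `E`, and `f : X →* G` onto. -/
theorem Wit.of_sylow {X G : Type*} [Group X] [Finite X] [Group G] {p : ℕ} (f : X →* G)
    (hf : Function.Surjective f) (S : Sylow 2 X) (E : Subgroup X) (hS : (S : Subgroup X).map f ≠ ⊥)
    (hE : IsMulCommutative ↥(E.map f)) (hEp : ∀ a ∈ E, f a ^ p = 1)
    (hEc : p ^ 4 ≤ Nat.card ↥(E.map f)) (hEN : E ≤ normalizer ((S : Subgroup X) : Set X)) : Wit p G := by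
  refine Wit.of_hom f hf S S E S.isPGroup' hS hE hEp hEc hEN ?_
  rw [relIndex_eq_one.2 le_normalizer]
  norm_num

/-- The case without a homomorphism: `Q ≠ 1` a 2-subgroup normalized by a Sylow 2-subgroup and by `E`. -/
theorem Wit.of_normalized {G : Type*} [Group G] [Finite G] {p : ℕ} (S : Sylow 2 G) (Q E : Subgroup G)
    (hQ : IsPGroup 2 ↥Q) (hQ1 : Q ≠ ⊥) (hE : IsMulCommutative E) (hEp : ∀ a ∈ E, a ^ p = 1)
    (hEc : p ^ 4 ≤ Nat.card ↥E) (hEN : E ≤ normalizer (Q : Set G))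
    (hS : (S : Subgroup G) ≤ normalizer (Q : Set G)) : Wit p G :=
  ⟨S, Q, E, hQ, hQ1, hE, hEp, hEc, hEN, by rw [relIndex_eq_one.2 hS]; norm_num⟩

end Cfsg.Agent.Sigma
end

-- part: BiChar/Rows
section
set_option linter.all false
open scoped Cfsg.Agent.FastGrp

/-!
# S1798 (the bicharacteristic case `e(G) ≤ 3`): the table (helper11)

`Hyp p G` : the hypotheses of S1798.  The rows of the table:

* `Wide4 P`  : (W) the groups of type `P` have a 2-local subgroup of `r`-rank at least 4 for some odd prime `r`;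
* `Kill P`   : (K) for the groups of type `P` and every odd prime `p`, if `m_p(G) ≥ 4` then every 2-local subgroup has
  `p`-rank at most 2;
* `Three P`  : (T) for the groups of type `P` and every odd prime `p`, if `m_p(G) ≥ 4` and some 2-local subgroup has
  `p`-rank at least 3 then `p = 3`;
* `Void P`   : (V) the groups of type `P` never satisfy `Hyp p G`.
-/

set_option autoImplicit false

namespace Cfsg.Agent.BiChar

open Cfsg Cfsg.Agent.SevenCases

universe u

/-- The hypotheses of S1798. -/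
structure Hyp (p : ℕ) (G : Type u) [Group G] : Prop where
  ret : IsOfRestrictedEvenType G
  le3 : OddTwoLocalRankLE 3 G
  prime : p.Prime
  ne_two : p ≠ 2
  not2 : ¬ TwoLocalPRankLE p 2 G
  rk : PRankAtLeast p 4 G
  lc : LpoAll p G (InC p)

/-- (W) -/
def Wide4 (P : ∀ (X : Type u) [Group X], Prop) : Prop :=
  ∀ (G : Type u) [Group G] [Finite G], P G → ¬ OddTwoLocalRankLE 3 G

/-- (K) -/
def Kill (P : ∀ (X : Type u) [Group X], Prop) : Prop :=
  ∀ (G : Type u) [Group G] [Finite G], P G → ∀ p : ℕ, p.Prime → p ≠ 2 → PRankAtLeast p 4 G → TwoLocalPRankLE p 2 G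

/-- (T) -/
def Three (P : ∀ (X : Type u) [Group X], Prop) : Prop :=
  ∀ (G : Type u) [Group G] [Finite G], P G → ∀ p : ℕ, p.Prime → p ≠ 2 → PRankAtLeast p 4 G →
    ¬ TwoLocalPRankLE p 2 G → p = 3

/-- (V) -/
def Void (P : ∀ (X : Type u) [Group X], Prop) : Prop :=
  ∀ (G : Type u) [Group G] [Finite G], P G → ∀ p : ℕ, ¬ Hyp p G

/-! ### the types in characteristic 2 (`q = |F|`, for the unitary groups `q² = |F|`) -/

/-- `L_n(q)`, `q` even, with a condition on `n` and `q` -/
def PslEven (c : ℕ → ℕ → Prop) (X : Type u) [Group X] : Prop :=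
  ∃ (F : Type) (_ : Field F) (_ : Fintype F) (_ : CharP F 2) (n : ℕ), c n (Fintype.card F) ∧
    Nonempty (X ≃* Matrix.ProjectiveSpecialLinearGroup (Fin n) F)

/-- `U_n(q)`, `q` even, with a condition on `n` and `q` -/
def PsuEven (c : ℕ → ℕ → Prop) (X : Type u) [Group X] : Prop :=
  ∃ (F : Type) (_ : Field F) (_ : Fintype F) (_ : CharP F 2) (n q : ℕ), Fintype.card F = q ^ 2 ∧ c n q ∧
    Nonempty (X ≃* PSU n F q)

/-- `PSp_{2m}(q)`, `q` even, with a condition on `m` and `q` -/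
def PspEven (c : ℕ → ℕ → Prop) (X : Type u) [Group X] : Prop :=
  ∃ (F : Type) (_ : Field F) (_ : Fintype F) (_ : CharP F 2) (m : ℕ), c m (Fintype.card F) ∧
    Nonempty (X ≃* PSp m F)

/-- `PΩ⁺_{2m}(q)`, `q` even, with a condition on `m` and `q` -/
def OmegaPlusEven (c : ℕ → ℕ → Prop) (X : Type u) [Group X] : Prop :=
  ∃ (F : Type) (_ : Field F) (_ : Fintype F) (_ : CharP F 2) (m : ℕ), c m (Fintype.card F) ∧
    Nonempty (X ≃* POmega F (quadFormPlus m F))

/-- `PΩ⁻_{2m}(q)`, `q` even, with a condition on `m` and `q` -/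
def OmegaMinusEven (c : ℕ → ℕ → Prop) (X : Type u) [Group X] : Prop :=
  ∃ (F : Type) (_ : Field F) (_ : Fintype F) (_ : CharP F 2) (m : ℕ) (a b : F), c m (Fintype.card F) ∧
    (∀ z₁ z₂ : F, z₁ ^ 2 + a * z₁ * z₂ + b * z₂ ^ 2 = 0 → z₁ = 0 ∧ z₂ = 0) ∧
    Nonempty (X ≃* POmega F (quadFormMinus (m - 1) F a b))

/-- `G₂(q)`, `q` even -/
def GTwoEven (c : ℕ → Prop) (X : Type u) [Group X] : Prop :=
  ∃ (F : Type) (_ : Field F) (_ : Fintype F) (_ : CharP F 2), c (Fintype.card F) ∧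
    Nonempty (X ≃* ↥(Lie.chevG2.group F))

/-- `F₄(q)`, `q` even -/
def FFourEven (c : ℕ → Prop) (X : Type u) [Group X] : Prop :=
  ∃ (F : Type) (_ : Field F) (_ : Fintype F) (_ : CharP F 2), c (Fintype.card F) ∧
    Nonempty (X ≃* ↥(Lie.chevF4.group F))

/-- `E₆(q)`, `q` even -/
def ESixEven (X : Type u) [Group X] : Prop :=
  ∃ (F : Type) (_ : Field F) (_ : Fintype F) (_ : CharP F 2), Nonempty (X ≃* ↥(Lie.chevE6.group F))

/-- `E₇(q)`, `q` even -/
def ESevenEven (X : Type u) [Group X] : Prop :=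
  ∃ (F : Type) (_ : Field F) (_ : Fintype F) (_ : CharP F 2), Nonempty (X ≃* ↥(Lie.chevE7.group F))

/-- `E₈(q)`, `q` even -/
def EEightEven (X : Type u) [Group X] : Prop :=
  ∃ (F : Type) (_ : Field F) (_ : Fintype F) (_ : CharP F 2), Nonempty (X ≃* ↥(Lie.chevE8.group F))

/-- `²E₆(q)`, `q` even -/
def TwESixEven (X : Type u) [Group X] : Prop :=
  ∃ (K : Type) (_ : Field K) (_ : Fintype K) (_ : CharP K 2) (q : ℕ), IsPrimePow q ∧ Fintype.card K = q ^ 2 ∧
    Nonempty (X ≃* ↥(Lie.twistedE6 K q))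

/-- `³D₄(q)`, `q` even -/
def TwDFourEven (X : Type u) [Group X] : Prop :=
  ∃ (K : Type) (_ : Field K) (_ : Fintype K) (_ : CharP K 2) (q : ℕ), IsPrimePow q ∧ Fintype.card K = q ^ 3 ∧
    Nonempty (X ≃* ↥(Lie.twistedD4 K q))

/-- some member of the list of S1798 -/
def Listed (G : Type u) [Group G] : Prop :=
  Nonempty (G ≃* alternatingGroup (Fin 12)) ∨
    Cfsg.Spor.IsoCo2 G ∨ Cfsg.Spor.IsoCo3 G ∨ Cfsg.Spor.IsoSuz G ∨ Cfsg.Spor.IsoTh G ∨ Cfsg.Spor.IsoHN G ∨
    (∃ (F : Type) (_ : Field F) (_ : Fintype F), Fintype.card F = 4 ∧ (Nonempty (G ≃* Cfsg.PSU 5 F 2) ∨ Nonempty (G ≃* Cfsg.PSU 6 F 2))) ∨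
    (∃ (F : Type) (_ : Field F) (_ : Fintype F), Fintype.card F = 2 ∧ (Nonempty (G ≃* Cfsg.POmega F (Cfsg.quadFormPlus 4 F)) ∨
      Nonempty (G ≃* Cfsg.PSp 4 F) ∨ Nonempty (G ≃* ↥(Cfsg.Lie.chevF4.group F))))

/-- `G` is of Lie type in odd characteristic. -/
def OddLie (G : Type u) [Group G] : Prop := ∃ r : ℕ, r.Prime ∧ r ≠ 2 ∧ IsLieTypeChar r G

/-- the six groups of Lie type in odd characteristic of restricted even type -/
def OddRes (G : Type u) [Group G] : Prop :=
  PslOdd (fun n q => n = 4 ∧ q = 3) G ∨ PsuOdd (fun n q => n = 4 ∧ q = 3) G ∨ GTwoOdd (fun q => q = 3) G ∨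
    OmegaOdd (fun m q => m = 3 ∧ q = 3) G ∨ OmegaPlusOdd (fun m q => m = 4 ∧ q = 3) G ∨
    OmegaMinusOdd (fun m q => m = 4 ∧ q = 3) G

/-- The groups of Lie type in odd characteristic of restricted even type. -/
def OddFilter : Prop :=
  ∀ (G : Type u) [Group G] [Finite G] [IsSimpleGroup G], ¬ IsMulCommutative G → OddLie G → ¬ IsLieTypeChar 2 G →
    IsOfRestrictedEvenType G → OddRes G

/-- (W) : `e(G) ≥ 4` (for everything except the alternating groups this is `Sigma.Wit`, see `wide4_of_wit`) -/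
structure WideRows : Prop where
  alt : Wide4.{u} (fun X _ => Alt (fun n => 13 ≤ n) X)
  psl : Wide4.{u} (fun X _ => PslEven (fun n q => (5 ≤ n ∧ 4 ≤ q) ∨ 8 ≤ n) X)
  psu : Wide4.{u} (fun X _ => PsuEven (fun n q => (6 ≤ n ∧ 4 ≤ q) ∨ 7 ≤ n) X)
  psp : Wide4.{u} (fun X _ => PspEven (fun m q => (4 ≤ m ∧ 4 ≤ q) ∨ 5 ≤ m) X)
  omegaPlus : Wide4.{u} (fun X _ => OmegaPlusEven (fun m q => (4 ≤ m ∧ 4 ≤ q) ∨ 5 ≤ m) X)
  omegaMinus : Wide4.{u} (fun X _ => OmegaMinusEven (fun m _ => 5 ≤ m) X)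
  f4 : Wide4.{u} (fun X _ => FFourEven (fun q => 4 ≤ q) X)
  e6 : Wide4.{u} (fun X _ => ESixEven X)
  e7 : Wide4.{u} (fun X _ => ESevenEven X)
  e8 : Wide4.{u} (fun X _ => EEightEven X)
  twE6 : Wide4.{u} (fun X _ => TwESixEven X)
  o73 : Wide4.{u} (fun X _ => OmegaOdd (fun m q => m = 3 ∧ q = 3) X)
  o8p3 : Wide4.{u} (fun X _ => OmegaPlusOdd (fun m q => m = 4 ∧ q = 3) X)
  o8m3 : Wide4.{u} (fun X _ => OmegaMinusOdd (fun m q => m = 4 ∧ q = 3) X)
  co1 : Wide4.{u} (fun X _ => Spor.IsoCo1 X)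
  fi22 : Wide4.{u} (fun X _ => Spor.IsoFi22 X)
  fi23 : Wide4.{u} (fun X _ => Spor.IsoFi23 X)
  fi24 : Wide4.{u} (fun X _ => Spor.IsoFi24' X)
  b : Wide4.{u} (fun X _ => Spor.IsoB X)
  m : Wide4.{u} (fun X _ => Spor.IsoM X)

/-- (K), groups of Lie type in characteristic 2 -/
structure KillLie : Prop where
  psl : Kill.{u} (fun X _ => PslEven (fun n _ => 2 ≤ n ∧ n ≤ 4) X)
  /-- `L₅(2)`, `L₆(2)`, `L₇(2)` -/
  psl2 : Kill.{u} (fun X _ => PslEven (fun n q => 5 ≤ n ∧ n ≤ 7 ∧ q = 2) X)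
  psu : Kill.{u} (fun X _ => PsuEven (fun n _ => 3 ≤ n ∧ n ≤ 4) X)
  psp : Kill.{u} (fun X _ => PspEven (fun m _ => 2 ≤ m ∧ m ≤ 3) X)
  omegaMinus : Kill.{u} (fun X _ => OmegaMinusEven (fun m _ => m = 4) X)
  g2 : Kill.{u} (fun X _ => GTwoEven (fun q => 4 ≤ q) X)
  d4 : Kill.{u} (fun X _ => TwDFourEven X)
  sz : Kill.{u} (fun X _ => Lie.IsoSuzuki X)
  f4 : Kill.{u} (fun X _ => Lie.Iso2F4 X)
  tits : Kill.{u} (fun X _ => Lie.IsoTits X)

/-- (K), the small groups -/
structure KillSmall : Prop where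
  alt : Kill.{u} (fun X _ => Alt (fun n => 5 ≤ n ∧ n ≤ 11) X)
  l43 : Kill.{u} (fun X _ => PslOdd (fun n q => n = 4 ∧ q = 3) X)
  u43 : Kill.{u} (fun X _ => PsuOdd (fun n q => n = 4 ∧ q = 3) X)
  g23 : Kill.{u} (fun X _ => GTwoOdd (fun q => q = 3) X)
  m11 : Kill.{u} (fun X _ => Spor.IsoM11 X)
  m12 : Kill.{u} (fun X _ => Spor.IsoM12 X)
  m22 : Kill.{u} (fun X _ => Spor.IsoM22 X)
  m23 : Kill.{u} (fun X _ => Spor.IsoM23 X)
  m24 : Kill.{u} (fun X _ => Spor.IsoM24 X)
  j1 : Kill.{u} (fun X _ => Spor.IsoJ1 X)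
  j2 : Kill.{u} (fun X _ => Spor.IsoJ2 X)
  j3 : Kill.{u} (fun X _ => Spor.IsoJ3 X)
  j4 : Kill.{u} (fun X _ => Spor.IsoJ4 X)
  hs : Kill.{u} (fun X _ => Spor.IsoHS X)
  he : Kill.{u} (fun X _ => Spor.IsoHe X)
  ru : Kill.{u} (fun X _ => Spor.IsoRu X)

/-- (V): not of restricted even type (McL, Ly, O'N: a `B₂`-component), and the real case `U₅(q)`, `q ≥ 4` even -/
structure VoidRows : Prop where
  mcl : Void.{u} (fun X _ => Spor.IsoMcL X)
  ly : Void.{u} (fun X _ => Spor.IsoLy X)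
  on : Void.{u} (fun X _ => Spor.IsoON X)
  psu5 : Void.{u} (fun X _ => PsuEven (fun n q => n = 5 ∧ 4 ≤ q) X)

/-- (T) -/
structure ThreeRows : Prop where
  a12 : Three.{u} (fun X _ => Alt (fun n => n = 12) X)
  co2 : Three.{u} (fun X _ => Spor.IsoCo2 X)
  co3 : Three.{u} (fun X _ => Spor.IsoCo3 X)
  suz : Three.{u} (fun X _ => Spor.IsoSuz X)
  th : Three.{u} (fun X _ => Spor.IsoTh X)
  hn : Three.{u} (fun X _ => Spor.IsoHN X)
  psu : Three.{u} (fun X _ => PsuEven (fun n q => (n = 5 ∨ n = 6) ∧ q = 2) X)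
  psp : Three.{u} (fun X _ => PspEven (fun m q => m = 4 ∧ q = 2) X)
  omegaPlus : Three.{u} (fun X _ => OmegaPlusEven (fun m q => m = 4 ∧ q = 2) X)
  f4 : Three.{u} (fun X _ => FFourEven (fun q => q = 2) X)

/-- **The table of S1798.** -/
structure Rows : Prop where
  odd : OddFilter.{u}
  wide : WideRows.{u}
  lie : KillLie.{u}
  small : KillSmall.{u}
  void : VoidRows.{u}
  three : ThreeRows.{u}

/-! ### general tools -/

/-- `m_p(G) ≥ 4` and `m_p(G) ≤ 3` are incompatible. -/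
theorem not_rankAtLeast {G : Type u} [Group G] {p : ℕ} (hp : p.Prime) (h : PRankLE p 3 G) : ¬ PRankAtLeast p 4 G := by
  rintro ⟨A, hA, hAp, hAc⟩
  exact absurd (hAc.trans (h A hA hAp)) (not_le.mpr (Nat.pow_lt_pow_right hp.one_lt (by norm_num)))

/-- If `m_p(G) ≥ k` then `p ^ k` divides `|G|`. -/
theorem dvd_card_of_rankAtLeast {G : Type u} [Group G] [Finite G] {p k : ℕ} (hp : p.Prime)
    (h : PRankAtLeast p k G) : p ^ k ∣ Nat.card G := by
  obtain ⟨A, hA, hAp, hAc⟩ := h
  have hfact : Fact p.Prime := ⟨hp⟩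
  have hA' : IsPGroup p A := fun a => ⟨1, by
    rw [pow_one]
    exact Subtype.ext (hAp _ a.2)⟩
  obtain ⟨n, hn⟩ := IsPGroup.iff_card.1 hA'
  have h1 : k ≤ n := by
    rw [hn] at hAc
    exact (Nat.pow_le_pow_iff_right hp.one_lt).1 hAc
  exact ((pow_dvd_pow p h1).trans (dvd_of_eq hn.symm)).trans A.card_subgroup_dvd_card

/-- (K) from `p ^ 4 ∤ |G|` -/
theorem kill_of_card {P : ∀ (X : Type u) [Group X], Prop}
    (h : ∀ (G : Type u) [Group G] [Finite G], P G → ∀ p : ℕ, p.Prime → p ≠ 2 → ¬ p ^ 4 ∣ Nat.card G) : Kill.{u} P :=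
  fun G _ _ hG p hp hp2 h4 => absurd (dvd_card_of_rankAtLeast hp h4) (h G hG p hp hp2)

/-- (K) from `m_p(G) ≤ 3` -/
theorem kill_of_rank {P : ∀ (X : Type u) [Group X], Prop}
    (h : ∀ (G : Type u) [Group G] [Finite G], P G → ∀ p : ℕ, p.Prime → p ≠ 2 → PRankLE p 3 G) : Kill.{u} P :=
  fun G _ _ hG p hp hp2 h4 => absurd h4 (not_rankAtLeast hp (h G hG p hp hp2))

/-- (T) from `p ^ 4 ∤ |G|` for `p ≠ 3` -/
theorem three_of_card {P : ∀ (X : Type u) [Group X], Prop}
    (h : ∀ (G : Type u) [Group G] [Finite G], P G → ∀ p : ℕ, p.Prime → p ≠ 2 → p ≠ 3 → ¬ p ^ 4 ∣ Nat.card G) :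
    Three.{u} P := by
  intro G _ _ hG p hp hp2 h4 _
  by_contra h3
  exact h G hG p hp hp2 h3 (dvd_card_of_rankAtLeast hp h4)

theorem Kill.void {P : ∀ (X : Type u) [Group X], Prop} (h : Kill.{u} P) : Void.{u} P :=
  fun G _ _ hG p hH => hH.not2 (h G hG p hH.prime hH.ne_two hH.rk)

theorem Wide4.void {P : ∀ (X : Type u) [Group X], Prop} (h : Wide4.{u} P) : Void.{u} P :=
  fun G _ _ hG _ hH => h G hG hH.le3

end Cfsg.Agent.BiChar
end

-- part: BiChar/SmallTools
section
set_option linter.all false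
open scoped Cfsg.Agent.FastGrp

/-!
# S1798: tools for the small rows (helper23)

* `not_four_dvd` : `p ^ 4 ∤ N` for all odd primes `p`, from a list of the prime divisors of `N`;
* `not_four_dvd_three` : the same for all primes `p ≠ 2, 3`;
* `not_atLeast_of_orderOf` : `|G|_p = p ^ k` and some element of order `p ^ 2` exclude `PRankAtLeast p k G`;
* `sig0_of_kill` : a row `Kill P` gives the row `Sig0 P` of `SigTab`.
-/

set_option autoImplicit false

namespace Cfsg.Agent.BiChar.Small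

open Cfsg Subgroup

universe u

theorem mem_of_dvd_list {p : ℕ} (hp : p.Prime) (l : List ℕ) (hl : ∀ q ∈ l, q.Prime) (h : p ∣ l.prod) : p ∈ l := by
  obtain ⟨q, hq, hpq⟩ := (Prime.dvd_prod_iff hp.prime).1 h
  rw [(Nat.prime_dvd_prime_iff_eq hp (hl q hq)).1 hpq]
  exact hq

/-- `p ^ 4 ∤ N` for all odd primes `p` -/
theorem not_four_dvd {N : ℕ} (a b : ℕ) (l : List ℕ) (hN : N ∣ 2 ^ a * l.prod ^ b)
    (hl : ∀ q ∈ l, q.Prime ∧ ¬ q ^ 4 ∣ N) (p : ℕ) (hp : p.Prime) (hp2 : p ≠ 2) : ¬ p ^ 4 ∣ N := by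
  intro h
  have h1 : p ∣ 2 ^ a * l.prod ^ b := ((dvd_pow_self p (by norm_num)).trans h).trans hN
  rcases (hp.dvd_mul).1 h1 with h2 | h2
  · exact hp2 ((Nat.prime_dvd_prime_iff_eq hp Nat.prime_two).1 (hp.dvd_of_dvd_pow h2))
  · exact (hl p (mem_of_dvd_list hp l (fun q hq => (hl q hq).1) (hp.dvd_of_dvd_pow h2))).2 h

/-- `p ^ 4 ∤ N` for all primes `p ≠ 2, 3` -/
theorem not_four_dvd_three {N : ℕ} (a b : ℕ) (l : List ℕ) (hN : N ∣ 6 ^ a * l.prod ^ b)
    (hl : ∀ q ∈ l, q.Prime ∧ ¬ q ^ 4 ∣ N) (p : ℕ) (hp : p.Prime) (hp2 : p ≠ 2) (hp3 : p ≠ 3) : ¬ p ^ 4 ∣ N := by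
  intro h
  have h1 : p ∣ 6 ^ a * l.prod ^ b := ((dvd_pow_self p (by norm_num)).trans h).trans hN
  rcases (hp.dvd_mul).1 h1 with h2 | h2
  · have h3 : p ∣ 2 * 3 := hp.dvd_of_dvd_pow h2
    rcases (hp.dvd_mul).1 h3 with h4 | h4
    · exact hp2 ((Nat.prime_dvd_prime_iff_eq hp Nat.prime_two).1 h4)
    · exact hp3 ((Nat.prime_dvd_prime_iff_eq hp Nat.prime_three).1 h4)
  · exact (hl p (mem_of_dvd_list hp l (fun q hq => (hl q hq).1) (hp.dvd_of_dvd_pow h2))).2 h

/-- `|G|_p = p ^ k` and some element of order `p ^ 2` -/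
theorem not_atLeast_of_orderOf {G : Type*} [Group G] [Finite G] {p k : ℕ} (hp : p.Prime)
    (h : ¬ p ^ (k + 1) ∣ Nat.card G) {x : G} (hx : orderOf x = p ^ 2) : ¬ PRankAtLeast p k G := by
  have : Fact p.Prime := ⟨hp⟩
  rintro ⟨A, hAc, hA, hk⟩
  obtain ⟨n, hn⟩ := IsPGroup.iff_card.1 (isPGroup_of_pow hA)
  have hkn : k ≤ n := by
    rw [hn] at hk
    exact (Nat.pow_le_pow_iff_right hp.one_lt).1 hk
  obtain ⟨S, hS⟩ := (isPGroup_of_pow hA).exists_le_sylow
  obtain ⟨m, hm⟩ := IsPGroup.iff_card.1 S.2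
  have hm' : m ≤ k := by
    by_contra hcon
    push Not at hcon
    refine h ((pow_dvd_pow p hcon).trans ?_)
    have h1 : Nat.card (S : Subgroup G) = p ^ m := hm
    rw [← h1]
    exact card_subgroup_dvd_card _
  have hAS : A = S := by
    refine eq_of_le_of_card_ge hS ?_
    rw [hn]
    have h1 : Nat.card (S : Subgroup G) = p ^ m := hm
    rw [h1]
    exact Nat.pow_le_pow_right hp.pos (hm'.trans hkn)
  have hP : IsPGroup p (zpowers x) := IsPGroup.iff_card.2 ⟨2, by rw [Nat.card_zpowers, hx]⟩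
  obtain ⟨T, hT⟩ := hP.exists_le_sylow
  obtain ⟨g, hg⟩ := MulAction.exists_smul_eq G T S
  have hmem : g * x * g⁻¹ ∈ A := by
    rw [hAS, ← hg]
    exact smul_mem_pointwise_smul x (MulAut.conj g) (T : Subgroup G) (hT (mem_zpowers x))
  have h1 := hA _ hmem
  have h2 : x ^ p = 1 := by
    rw [conj_pow, mul_inv_eq_one] at h1
    exact mul_left_cancel (h1.trans (mul_one g).symm)
  have h3 := orderOf_dvd_of_pow_eq_one h2
  rw [hx] at h3
  have h4 := Nat.le_of_dvd hp.pos h3
  have h5 : p < p ^ 2 := by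
    rw [sq]
    nlinarith [hp.one_lt]
  omega

/-- a subgroup of rank at least `k` -/
theorem atLeast_of_subgroup {G : Type*} [Group G] {p k : ℕ} {M : Subgroup G} (h : PRankAtLeast p k ↥M) :
    PRankAtLeast p k G := by
  obtain ⟨A, hA, hAp, hk⟩ := h
  refine ⟨A.map M.subtype, ⟨⟨?_⟩⟩, ?_, ?_⟩
  · rintro ⟨_, a, ha, rfl⟩ ⟨_, b, hb, rfl⟩
    have := hA.is_comm.comm (⟨a, ha⟩ : A) ⟨b, hb⟩
    exact Subtype.ext (congrArg (fun x : A => ((x : M) : G)) this)
  · rintro _ ⟨a, ha, rfl⟩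
    rw [← map_pow, hAp a ha, map_one]
  · rw [card_map_of_injective (subtype_injective _)]
    exact hk

/-- **(K) gives `σ(G) = ∅`.** -/
theorem sig0_of_kill {P : ∀ (X : Type u) [Group X], Prop} (h : Kill.{u} P) : SigTab.Sig0.{u} P := by
  intro G _ _ hG
  rw [Set.eq_empty_iff_forall_notMem]
  rintro p ⟨hp, hp2, S, M, hM, hMp⟩
  have h1 := h G hG p hp hp2 (atLeast_of_subgroup hMp) M hM.1.1
  obtain ⟨A, hA, hAp, hk⟩ := hMp
  have h2 := hk.trans (h1 A hA hAp)
  have h3 := (Nat.pow_le_pow_iff_right hp.one_lt).1 h2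
  omega

/-- `σ(G) = ∅` from `p ^ 4 ∤ |G|` -/
theorem kill_of_card_eq {P : ∀ (X : Type u) [Group X], Prop} {N : ℕ}
    (h : ∀ (G : Type u) [Group G], P G → Nat.card G = N) (hN : ∀ p : ℕ, p.Prime → p ≠ 2 → ¬ p ^ 4 ∣ N) :
    Kill.{u} P :=
  kill_of_card fun G _ _ hG p hp hp2 => by rw [h G hG]; exact hN p hp hp2

/-- (T) from `p ^ 4 ∤ |G|` for `p ≠ 3` -/
theorem three_of_card_eq {P : ∀ (X : Type u) [Group X], Prop} {N : ℕ}
    (h : ∀ (G : Type u) [Group G], P G → Nat.card G = N) (hN : ∀ p : ℕ, p.Prime → p ≠ 2 → p ≠ 3 → ¬ p ^ 4 ∣ N) :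
    Three.{u} P :=
  three_of_card fun G _ _ hG p hp hp2 hp3 => by rw [h G hG]; exact hN p hp hp2 hp3

end Cfsg.Agent.BiChar.Small
end

-- part: BiChar/SigTool
section
set_option linter.all false
open scoped Cfsg.Agent.FastGrp

/-!
# Tools for the rows of `SigTab.Sig0Lie` and `BiChar.KillLie` (helper11)
-/

set_option autoImplicit false

namespace Cfsg.Agent.BiChar.SigTool

open Cfsg Cfsg.Agent.Sigma.Pair

universe u v

/-- a finite field of even order has characteristic 2 -/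
theorem charP_two {F : Type*} [Field F] [Fintype F] (h : Even (Fintype.card F)) : CharP F 2 := by
  obtain ⟨p, hc⟩ := CharP.exists F
  obtain ⟨n, hp, hn⟩ := FiniteField.card F p
  have h2 : 2 ∣ p := by
    rw [hn] at h
    exact Nat.prime_two.dvd_of_dvd_pow h.two_dvd
  have h3 : p = 2 := ((Nat.prime_dvd_prime_iff_eq Nat.prime_two hp).1 h2).symm
  rw [← h3]
  exact hc

theorem even_card {F : Type*} [Field F] [Fintype F] [CharP F 2] : Even (Fintype.card F) := by
  obtain ⟨n, hp, hn⟩ := FiniteField.card F 2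
  rw [hn]
  exact (Nat.even_pow.2 ⟨even_two, n.ne_zero⟩)

theorem pRankLE_mono {G : Type*} [Group G] {p a b : ℕ} (hp : p.Prime) (hab : a ≤ b) (h : PRankLE p a G) :
    PRankLE p b G := fun A hA hAp => (h A hA hAp).trans (Nat.pow_le_pow_right hp.pos hab)

theorem twoLocal_mono {G : Type*} [Group G] {p a b : ℕ} (hp : p.Prime) (hab : a ≤ b) (h : TwoLocalPRankLE p a G) :
    TwoLocalPRankLE p b G := fun M hM => pRankLE_mono hp hab (h M hM)

/-- `σ(G) = ∅` when all the 2-local subgroups have odd ranks at most 2 -/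
theorem sigma_empty {G : Type*} [Group G] [Finite G]
    (h : ∀ p : ℕ, p.Prime → p ≠ 2 → TwoLocalPRankLE p 2 G) : sigmaSet G = ∅ :=
  sigma_empty_of fun p hp hp2 _ => twoLocal_mono hp (by norm_num) (h p hp hp2)

/-- `σ(G) = ∅` when the odd ranks of `G` are at most 3 -/
theorem sigma_empty_of_rank {G : Type*} [Group G] [Finite G]
    (h : ∀ p : ℕ, p.Prime → p ≠ 2 → PRankLE p 3 G) : sigmaSet G = ∅ := by
  refine sigma_empty_of fun p hp hp2 _ M _ A hA hAp => ?_
  have h1 : Nat.card (A.map M.subtype) = Nat.card A := Subgroup.card_map_of_injective M.subtype_injective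
  rw [← h1]
  refine h p hp hp2 _ ?_ ?_
  · refine ⟨⟨?_⟩⟩
    rintro ⟨_, a, ha, rfl⟩ ⟨_, b, hb, rfl⟩
    have h3 : a * b = b * a := congrArg Subtype.val (hA.is_comm.comm ⟨a, ha⟩ ⟨b, hb⟩)
    apply Subtype.ext
    have h4 : (a : G) * (b : G) = (b : G) * (a : G) := congrArg Subtype.val h3
    exact h4
  · rintro _ ⟨a, ha, rfl⟩
    exact congrArg Subtype.val (hAp a ha)

end Cfsg.Agent.BiChar.SigTool
end

-- part: Sigma/Tools
section
set_option linter.all false
open scoped Cfsg.Agent.FastGrp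

/-!
# Tools for witnesses in involution centralizers

* `exists_sylow_le`, `exists_sylow_relIndex` : Sylow subgroups near a subgroup of index prime to 2, resp. to 4;
* `wit_of_centralizer` : `Wit p G` from an involution `z` with `4 ∤ |G : C(z)|` and `PRankAtLeast p 4 (C(z))`;
* `elem_of_four` : four commuting elements of order `p` which are independent;
* `pRankAtLeast_of_injective`, `pRankAtLeast_congr`, `pRankAtLeast_of_quotient`.
-/

set_option autoImplicit false

namespace Cfsg.Agent.Sigma.Tools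

open Cfsg Subgroup

/-- A subgroup of index prime to `p` contains a Sylow `p`-subgroup; more generally if `p ^ (k+1)` does not divide the
index of `H`, some Sylow `p`-subgroup `S` has `|S : S ∩ H| ≤ p ^ k`. -/
theorem exists_sylow_relIndex {G : Type*} [Group G] [Finite G] {p k : ℕ} [Fact p.Prime] {H : Subgroup G}
    (h : ¬ p ^ (k + 1) ∣ H.index) : ∃ S : Sylow p G, H.relIndex (S : Subgroup G) ≤ p ^ k := by
  obtain ⟨P⟩ : Nonempty (Sylow p ↥H) := inferInstance
  have hP : IsPGroup p ↥((P : Subgroup ↥H).map H.subtype) := P.isPGroup'.map _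
  obtain ⟨S, hS⟩ := hP.exists_le_sylow
  refine ⟨S, ?_⟩
  have hp : p.Prime := Fact.out
  -- the order of `S` divides `p ^ k` times the order of `P`
  have h1 : Nat.card ↥(S : Subgroup G) ≤ p ^ k * Nat.card ↥((P : Subgroup ↥H).map H.subtype) := by
    rw [Subgroup.card_map_of_injective H.subtype_injective]
    rw [show Nat.card ↥(S : Subgroup G) = Nat.card S from rfl,
      show Nat.card ↥(P : Subgroup ↥H) = Nat.card P from rfl, S.card_eq_multiplicity, P.card_eq_multiplicity]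
    have h2 : Nat.card ↥H * H.index = Nat.card G := H.card_mul_index
    rw [← h2, Nat.factorization_mul Nat.card_pos.ne' H.index_ne_zero_of_finite, Finsupp.add_apply, pow_add, mul_comm]
    refine Nat.mul_le_mul_right _ (Nat.pow_le_pow_right hp.pos ?_)
    by_contra hcon
    apply h
    rw [hp.pow_dvd_iff_le_factorization H.index_ne_zero_of_finite]
    omega
  have h2 : (P : Subgroup ↥H).map H.subtype ≤ H ⊓ (S : Subgroup G) := le_inf (map_subtype_le _) hS
  have h3 : Nat.card ↥((P : Subgroup ↥H).map H.subtype) ≤ Nat.card ↥(H ⊓ (S : Subgroup G) : Subgroup G) :=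
    Subgroup.card_le_of_le h2
  have h4 : Nat.card ↥(H ⊓ (S : Subgroup G) : Subgroup G) * (H ⊓ (S : Subgroup G)).relIndex (S : Subgroup G) =
      Nat.card ↥(S : Subgroup G) := by
    have h5 := relIndex_mul_relIndex (⊥ : Subgroup G) (H ⊓ (S : Subgroup G)) (S : Subgroup G) bot_le inf_le_right
    rwa [relIndex_bot_left, relIndex_bot_left] at h5
  rw [inf_relIndex_right] at h4
  have h5 : 0 < Nat.card ↥(H ⊓ (S : Subgroup G) : Subgroup G) := Nat.card_pos
  have h6 : Nat.card ↥(H ⊓ (S : Subgroup G) : Subgroup G) * H.relIndex (S : Subgroup G) ≤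
      Nat.card ↥(H ⊓ (S : Subgroup G) : Subgroup G) * p ^ k := by
    rw [h4, mul_comm _ (p ^ k)]
    exact h1.trans (Nat.mul_le_mul_left _ h3)
  exact Nat.le_of_mul_le_mul_left h6 h5

theorem exists_sylow_le {G : Type*} [Group G] [Finite G] {p : ℕ} [Fact p.Prime] {H : Subgroup G}
    (h : ¬ p ∣ H.index) : ∃ S : Sylow p G, (S : Subgroup G) ≤ H := by
  obtain ⟨S, hS⟩ := exists_sylow_relIndex (p := p) (k := 0) (H := H) (by rwa [zero_add, pow_one])
  refine ⟨S, ?_⟩
  rw [pow_zero] at hS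
  rw [← relIndex_eq_one]
  have : H.relIndex (S : Subgroup G) ≠ 0 := by
    intro h0
    have h1 := relIndex_dvd_card H (S : Subgroup G)
    rw [h0, Nat.zero_dvd] at h1
    exact (Nat.card_pos (α := ↥(S : Subgroup G))).ne' h1
  omega

theorem pRankAtLeast_of_injective {G H : Type*} [Group G] [Group H] {p k : ℕ} (f : G →* H)
    (hf : Function.Injective f) (h : PRankAtLeast p k G) : PRankAtLeast p k H := by
  obtain ⟨A, hA, hAp, hc⟩ := h
  refine ⟨A.map f, ⟨⟨?_⟩⟩, ?_, ?_⟩
  · rintro ⟨_, a, ha, rfl⟩ ⟨_, b, hb, rfl⟩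
    have h1 := hA.is_comm.comm ⟨a, ha⟩ ⟨b, hb⟩
    have h2 : a * b = b * a := congrArg Subtype.val h1
    apply Subtype.ext
    change f a * f b = f b * f a
    rw [← map_mul, h2, map_mul]
  · rintro _ ⟨a, ha, rfl⟩
    rw [← map_pow, hAp a ha, map_one]
  · rw [Subgroup.card_map_of_injective hf]
    exact hc

theorem pRankAtLeast_congr {G H : Type*} [Group G] [Group H] {p k : ℕ} (e : G ≃* H)
    (h : PRankAtLeast p k G) : PRankAtLeast p k H :=
  pRankAtLeast_of_injective e.toMonoidHom e.injective h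

/-- `p`-rank of a quotient by a normal `p'`-subgroup, given by a surjective homomorphism. -/
theorem pRankAtLeast_of_surjective {G H : Type*} [Group G] [Group H] [Finite G] {p k : ℕ} [Fact p.Prime] (f : G →* H)
    (hf : Function.Surjective f) (hk : ¬ p ∣ Nat.card f.ker) (h : PRankAtLeast p k H) : PRankAtLeast p k G := by
  have hfH : Finite H := Finite.of_surjective f hf
  obtain ⟨A, hA, hAp, hc⟩ := h
  obtain ⟨P⟩ : Nonempty (Sylow p ↥(A.comap f)) := inferInstance
  -- the Sylow subgroup of the preimage is mapped isomorphically onto `A`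
  let P' : Subgroup G := (P : Subgroup ↥(A.comap f)).map (A.comap f).subtype
  have hP' : IsPGroup p ↥P' := P.isPGroup'.map _
  have hP'A : P' ≤ A.comap f := map_subtype_le _
  have hinj : ∀ x ∈ P', f x = 1 → x = 1 := by
    intro x hx h1
    obtain ⟨n, hn⟩ := hP' ⟨x, hx⟩
    have hn' : x ^ p ^ n = 1 := congrArg Subtype.val hn
    have h2 : orderOf x ∣ p ^ n := orderOf_dvd_of_pow_eq_one hn'
    have h3 : orderOf x ∣ Nat.card f.ker := by
      have h4 : orderOf (⟨x, h1⟩ : f.ker) ∣ Nat.card f.ker := orderOf_dvd_natCard _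
      rwa [← Subgroup.orderOf_coe] at h4
    obtain ⟨m, -, hm⟩ := (Nat.dvd_prime_pow (Fact.out : p.Prime)).1 h2
    have h5 : m = 0 := by
      by_contra h0
      exact hk ((dvd_pow_self p h0).trans (hm ▸ h3))
    rw [h5, pow_zero, orderOf_eq_one_iff] at hm
    exact hm
  refine ⟨P', ⟨⟨?_⟩⟩, ?_, ?_⟩
  · rintro ⟨a, ha⟩ ⟨b, hb⟩
    apply Subtype.ext
    change a * b = b * a
    have h1 := hA.is_comm.comm ⟨f a, hP'A ha⟩ ⟨f b, hP'A hb⟩
    have h2 : f a * f b = f b * f a := congrArg Subtype.val h1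
    have h3 : a * b * (b * a)⁻¹ = 1 := by
      apply hinj _ (mul_mem (mul_mem ha hb) (inv_mem (mul_mem hb ha)))
      rw [map_mul, map_inv, map_mul, map_mul, h2, mul_inv_cancel]
    exact mul_inv_eq_one.1 h3
  · intro a ha
    apply hinj _ (pow_mem ha p)
    rw [map_pow, hAp _ (hP'A ha)]
  · refine hc.trans ?_
    have hg : Function.Surjective (f.subgroupComap A) := f.subgroupComap_surjective_of_surjective A hf
    have hAP : IsPGroup p ↥A := fun a => ⟨1, Subtype.ext (by rw [pow_one]; exact hAp a a.2)⟩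
    have htop : (⊤ : Subgroup ↥A) = ((P.mapSurjective hg : Sylow p ↥A) : Subgroup ↥A) :=
      (P.mapSurjective hg).is_maximal' (hAP.of_equiv Subgroup.topEquiv.symm) le_top
    rw [Sylow.coe_mapSurjective] at htop
    have h1 : Nat.card ↥A = Nat.card ↥((P : Subgroup ↥(A.comap f)).map (f.subgroupComap A)) := by
      rw [← htop]
      exact (Nat.card_congr Subgroup.topEquiv.toEquiv).symm
    have h2 : Nat.card ↥P' = Nat.card ↥(P : Subgroup ↥(A.comap f)) :=
      Subgroup.card_map_of_injective (A.comap f).subtype_injective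
    rw [h1, h2]
    exact Nat.card_le_card_of_surjective ((f.subgroupComap A).subgroupMap _)
      (MonoidHom.subgroupMap_surjective _ _)

/-- **`Wit` from an involution.** -/
theorem wit_of_centralizer {G : Type*} [Group G] [Finite G] {p : ℕ} {z : G} (hz1 : z ≠ 1) (hz2 : z ^ 2 = 1)
    (hidx : ¬ 4 ∣ (centralizer ({z} : Set G)).index) (h : PRankAtLeast p 4 ↥(centralizer ({z} : Set G))) :
    Wit p G := by
  have : Fact (Nat.Prime 2) := ⟨Nat.prime_two⟩
  obtain ⟨S, hS⟩ := exists_sylow_relIndex (p := 2) (k := 1) (H := centralizer ({z} : Set G)) hidx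
  have hle : centralizer ({z} : Set G) ≤ normalizer ((zpowers z : Subgroup G) : Set G) := by
    intro g hg
    rw [mem_centralizer_singleton_iff] at hg
    have hg' : Commute g z := hg
    rw [mem_normalizer_iff]
    intro x
    constructor
    · rintro ⟨n, rfl⟩
      refine ⟨n, ?_⟩
      have h1 := (hg'.zpow_right n).eq
      change z ^ n = g * z ^ n * g⁻¹
      rw [h1, mul_inv_cancel_right]
    · rintro ⟨n, hn⟩
      refine ⟨n, ?_⟩
      change z ^ n = g * x * g⁻¹ at hn
      change z ^ n = x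
      have h1 := (hg'.zpow_right n).eq
      have h2 : g * x = g * z ^ n := by
        rw [h1, hn, inv_mul_cancel_right]
      exact (mul_left_cancel h2).symm
  obtain ⟨A, hA, hAp, hc⟩ := h
  refine ⟨S, zpowers z, A.map (centralizer ({z} : Set G)).subtype, ?_, ?_, ?_, ?_, ?_, ?_, ?_⟩
  · refine IsPGroup.of_card (n := 1) ?_
    rw [Nat.card_zpowers, pow_one]
    exact orderOf_eq_prime hz2 hz1
  · intro h0
    exact hz1 (zpowers_eq_bot.1 h0)
  · refine ⟨⟨?_⟩⟩
    rintro ⟨_, a, ha, rfl⟩ ⟨_, b, hb, rfl⟩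
    have h1 := hA.is_comm.comm ⟨a, ha⟩ ⟨b, hb⟩
    have h2 : a * b = b * a := congrArg Subtype.val h1
    apply Subtype.ext
    change (a : G) * (b : G) = (b : G) * (a : G)
    exact congrArg Subtype.val h2
  · rintro _ ⟨a, ha, rfl⟩
    exact congrArg Subtype.val (hAp a ha)
  · rw [Subgroup.card_map_of_injective (subtype_injective _)]
    exact hc
  · exact (map_subtype_le _).trans hle
  · refine le_trans ?_ hS
    exact relIndex_le_of_le_left hle index_ne_zero_of_finite

/-- Four commuting independent elements of order `p`. -/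
theorem elem_of_four {G : Type*} [Group G] {p : ℕ} (hp : 0 < p) (x : Fin 4 → G)
    (hc : ∀ i j, Commute (x i) (x j)) (hx : ∀ i, x i ^ p = 1)
    (hne : ∀ i j k l : Fin p, x 0 ^ (i : ℕ) * x 1 ^ (j : ℕ) * x 2 ^ (k : ℕ) * x 3 ^ (l : ℕ) = 1 →
      (i : ℕ) = 0 ∧ (j : ℕ) = 0 ∧ (k : ℕ) = 0 ∧ (l : ℕ) = 0) (H : Subgroup G) (hH : ∀ i, x i ∈ H) [Finite H] :
    PRankAtLeast p 4 ↥H := by
  set y : Fin 4 → ↥H := fun i => ⟨x i, hH i⟩ with hy
  have hcy : ∀ i j, Commute (y i) (y j) := fun i j => Subtype.ext (hc i j)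
  set E : Subgroup ↥H := closure (Set.range y) with hE
  have hEc : IsMulCommutative E := by
    rw [hE]
    refine Subgroup.isMulCommutative_closure ?_
    rintro _ ⟨i, rfl⟩ _ ⟨j, rfl⟩
    exact hcy i j
  refine ⟨E, hEc, ?_, ?_⟩
  · intro a ha
    induction ha using Subgroup.closure_induction with
    | mem a ha => obtain ⟨i, rfl⟩ := ha; exact Subtype.ext (hx i)
    | one => exact one_pow p
    | mul a b ha hb iha ihb =>
      have : Commute a b := congrArg Subtype.val (hEc.is_comm.comm ⟨a, ha⟩ ⟨b, hb⟩)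
      rw [this.mul_pow, iha, ihb, one_mul]
    | inv a ha ih => rw [inv_pow, ih, inv_one]
  · have hyE : ∀ i, y i ∈ E := fun i => Subgroup.subset_closure ⟨i, rfl⟩
    let f : Fin p × Fin p × Fin p × Fin p → E := fun a =>
      ⟨y 0 ^ (a.1 : ℕ) * y 1 ^ (a.2.1 : ℕ) * y 2 ^ (a.2.2.1 : ℕ) * y 3 ^ (a.2.2.2 : ℕ),
        mul_mem (mul_mem (mul_mem (pow_mem (hyE 0) _) (pow_mem (hyE 1) _)) (pow_mem (hyE 2) _)) (pow_mem (hyE 3) _)⟩
    have hf : Function.Injective f := by
      rintro ⟨a0, a1, a2, a3⟩ ⟨b0, b1, b2, b3⟩ hab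
      -- powers
      have hpow : ∀ (u : G) (_ : u ^ p = 1) (a b : Fin p), ∃ c : Fin p, u ^ (c : ℕ) = u ^ (a : ℕ) * (u ^ (b : ℕ))⁻¹ ∧
          ((c : ℕ) = 0 → a = b) := by
        intro u hu a b
        refine ⟨⟨(a + (p - b)) % p, Nat.mod_lt _ hp⟩, ?_, ?_⟩
        · change u ^ ((a + (p - b)) % p) = _
          rw [← pow_mod_orderOf, Nat.mod_mod_of_dvd _ (orderOf_dvd_of_pow_eq_one hu), pow_mod_orderOf, pow_add,
            pow_sub u b.2.le, hu, one_mul]
        · intro h0
          change ((a : ℕ) + (p - b)) % p = 0 at h0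
          have h1 := a.2
          have h2 := b.2
          rcases Nat.lt_or_ge (a + (p - b)) p with h3 | h3
          · rw [Nat.mod_eq_of_lt h3] at h0
            omega
          · rw [Nat.mod_eq_sub_mod h3, Nat.mod_eq_of_lt (by omega)] at h0
            exact Fin.ext (by omega)
      obtain ⟨c0, h0, g0⟩ := hpow (x 0) (hx 0) a0 b0
      obtain ⟨c1, h1, g1⟩ := hpow (x 1) (hx 1) a1 b1
      obtain ⟨c2, h2, g2⟩ := hpow (x 2) (hx 2) a2 b2
      obtain ⟨c3, h3, g3⟩ := hpow (x 3) (hx 3) a3 b3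
      have h4 : x 0 ^ (a0 : ℕ) * x 1 ^ (a1 : ℕ) * x 2 ^ (a2 : ℕ) * x 3 ^ (a3 : ℕ) =
          x 0 ^ (b0 : ℕ) * x 1 ^ (b1 : ℕ) * x 2 ^ (b2 : ℕ) * x 3 ^ (b3 : ℕ) := by
        have h5 := congrArg (fun z : E => ((z : ↥H) : G)) hab
        exact h5
      have h5 : x 0 ^ (c0 : ℕ) * x 1 ^ (c1 : ℕ) * x 2 ^ (c2 : ℕ) * x 3 ^ (c3 : ℕ) = 1 := by
        rw [h0, h1, h2, h3]
        have e1 : x 0 ^ (a0 : ℕ) * (x 0 ^ (b0 : ℕ))⁻¹ * (x 1 ^ (a1 : ℕ) * (x 1 ^ (b1 : ℕ))⁻¹) *
            (x 2 ^ (a2 : ℕ) * (x 2 ^ (b2 : ℕ))⁻¹) * (x 3 ^ (a3 : ℕ) * (x 3 ^ (b3 : ℕ))⁻¹) =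
            (x 0 ^ (a0 : ℕ) * x 1 ^ (a1 : ℕ) * x 2 ^ (a2 : ℕ) * x 3 ^ (a3 : ℕ)) *
            (x 0 ^ (b0 : ℕ) * x 1 ^ (b1 : ℕ) * x 2 ^ (b2 : ℕ) * x 3 ^ (b3 : ℕ))⁻¹ := by
          let _ : CommGroup E := { (inferInstance : Group E) with mul_comm := fun a b => hEc.is_comm.comm a b }
          let Y : Fin 4 → E := fun i => ⟨y i, hyE i⟩
          have e2 : Y 0 ^ (a0 : ℕ) * (Y 0 ^ (b0 : ℕ))⁻¹ * (Y 1 ^ (a1 : ℕ) * (Y 1 ^ (b1 : ℕ))⁻¹) *
              (Y 2 ^ (a2 : ℕ) * (Y 2 ^ (b2 : ℕ))⁻¹) * (Y 3 ^ (a3 : ℕ) * (Y 3 ^ (b3 : ℕ))⁻¹) =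
              (Y 0 ^ (a0 : ℕ) * Y 1 ^ (a1 : ℕ) * Y 2 ^ (a2 : ℕ) * Y 3 ^ (a3 : ℕ)) *
              (Y 0 ^ (b0 : ℕ) * Y 1 ^ (b1 : ℕ) * Y 2 ^ (b2 : ℕ) * Y 3 ^ (b3 : ℕ))⁻¹ := by
            simp only [← div_eq_mul_inv]
            rw [div_mul_div_comm, div_mul_div_comm, div_mul_div_comm]
          exact congrArg (fun z : E => ((z : ↥H) : G)) e2
        rw [e1, h4, mul_inv_cancel]
      obtain ⟨k0, k1, k2, k3⟩ := hne c0 c1 c2 c3 h5
      rw [g0 k0, g1 k1, g2 k2, g3 k3]
    have h1 := Nat.card_le_card_of_injective f hf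
    rw [Nat.card_prod, Nat.card_prod, Nat.card_prod, Nat.card_eq_fintype_card, Fintype.card_fin] at h1
    calc p ^ 4 = p * (p * (p * p)) := by ring
      _ ≤ _ := h1

end Cfsg.Agent.Sigma.Tools
end
end

-- part: BiChar/OmegaM
section
set_option linter.all false
open scoped Cfsg.Agent.FastGrp

-- merged: Cfsg.Agent.BiChar.GaussPlane
section

/-!
# Sums of additive characters over quadratic spaces in characteristic 2 (helper11)

* `tot f` : the sum of `f`;
* `plane` : on a nondegenerate plane with an isometry of odd prime order `p` without nonzero fixed vectors the Gauss sum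
  is `q` (and `p ∣ q - 1`) or `-q` (and `p ∣ q + 1`).
-/

set_option autoImplicit false
set_option linter.unusedSectionVars false

namespace Cfsg.Agent.BiChar.OmM

open Module

/-- the sum of a function on a finite type -/
noncomputable def tot {α : Type*} (f : α → ℂ) : ℂ := ∑ᶠ a, f a

theorem tot_eq {α : Type*} [Fintype α] (f : α → ℂ) : tot f = ∑ a, f a := finsum_eq_sum_of_fintype f

theorem tot_equiv {α β : Type*} (e : α ≃ β) (f : β → ℂ) : tot (fun a => f (e a)) = tot f := finsum_comp_equiv e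

theorem tot_mul {α β : Type*} [Finite α] [Finite β] (f : α → ℂ) (g : β → ℂ) :
    tot (fun x : α × β => f x.1 * g x.2) = tot f * tot g := by
  have := Fintype.ofFinite α
  have := Fintype.ofFinite β
  rw [tot_eq, tot_eq, tot_eq, Fintype.sum_prod_type, Finset.sum_mul_sum]

/-- orthogonal sums -/
theorem tot_compl {F V : Type*} [Field F] [AddCommGroup V] [Module F V] [Finite V] (ψ : AddChar F ℂ)
    (Q : V → F) (B : V →ₗ[F] V →ₗ[F] F) (hQ : ∀ u v, Q (u + v) = Q u + Q v + B u v)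
    (C S : Submodule F V) (hCS : IsCompl C S) (hperp : ∀ c ∈ C, ∀ s ∈ S, B c s = 0) :
    tot (fun v : V => ψ (Q v)) = tot (fun v : C => ψ (Q v)) * tot (fun v : S => ψ (Q v)) := by
  rw [← tot_mul, ← tot_equiv (Submodule.prodEquivOfIsCompl C S hCS).toEquiv]
  congr 1
  ext x
  show ψ (Q ((Submodule.prodEquivOfIsCompl C S hCS) x)) = _
  rw [Submodule.coe_prodEquivOfIsCompl', hQ, hperp _ x.1.2 _ x.2.2, add_zero, AddChar.map_add_eq_mul]

variable {F : Type*} [Field F] [Fintype F] [CharP F 2]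

/-- the level sets of a quadratic form -/
theorem card_level {U : Type*} [AddCommGroup U] [Module F U] (Q : U → F)
    (hQs : ∀ (a : F) v, Q (a • v) = a ^ 2 * Q v) {c : F} (hc : c ≠ 0) :
    Nat.card {v : U // Q v = c} = Nat.card {v : U // Q v = 1} := by
  obtain ⟨s, hs⟩ := FiniteField.isSquare_of_char_two (ringChar.eq F 2) c
  have hs0 : s ≠ 0 := by
    rintro rfl
    exact hc (by rw [hs, mul_zero])
  refine (Nat.card_congr ?_).symm
  exact
    { toFun := fun v => ⟨s • (v : U), by rw [hQs, v.2, mul_one, sq, hs]⟩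
      invFun := fun v => ⟨s⁻¹ • (v : U), by rw [hQs, v.2, hs]; field_simp⟩
      left_inv := fun v => by
        apply Subtype.ext
        show s⁻¹ • s • (v : U) = v
        rw [smul_smul, inv_mul_cancel₀ hs0, one_smul]
      right_inv := fun v => by
        apply Subtype.ext
        show s • s⁻¹ • (v : U) = v
        rw [smul_smul, mul_inv_cancel₀ hs0, one_smul] }

/-- the Gauss sum and the level sets -/
theorem tot_level {U : Type*} [AddCommGroup U] [Module F U] [Finite U] (Q : U → F)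
    (hQs : ∀ (a : F) v, Q (a • v) = a ^ 2 * Q v) {ψ : AddChar F ℂ} (hψ : ψ ≠ 1) :
    tot (fun v : U => ψ (Q v)) = (Nat.card {v : U // Q v = 0} : ℂ) - (Nat.card {v : U // Q v = 1} : ℂ) ∧
      Nat.card {v : U // Q v = 0} + (Fintype.card F - 1) * Nat.card {v : U // Q v = 1} = Nat.card U := by
  classical
  have := Fintype.ofFinite U
  have hfib : ∀ c, (Finset.univ.filter fun v : U => Q v = c).card = Nat.card {v : U // Q v = c} := by
    intro c
    rw [Nat.card_eq_fintype_card, Fintype.card_subtype]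
  constructor
  · rw [tot_eq, ← Finset.sum_fiberwise Finset.univ Q fun v => ψ (Q v)]
    have h1 : ∀ c : F, ∑ v : U with Q v = c, ψ (Q v) = (Nat.card {v : U // Q v = c} : ℂ) * ψ c := by
      intro c
      rw [Finset.sum_congr rfl fun v hv => by rw [(Finset.mem_filter.1 hv).2], Finset.sum_const, nsmul_eq_mul, hfib]
    rw [Finset.sum_congr rfl fun c _ => h1 c]
    have h2 : ∑ c : F, ψ c = 0 := AddChar.sum_eq_zero_of_ne_one hψ
    have h3 : ∑ c : F, (Nat.card {v : U // Q v = c} : ℂ) * ψ c =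
        ∑ c : F, (((Nat.card {v : U // Q v = 1} : ℂ) * ψ c) + if c = 0 then ((Nat.card {v : U // Q v = 0} : ℂ) - (Nat.card {v : U // Q v = 1} : ℂ)) else 0) := by
      refine Finset.sum_congr rfl fun c _ => ?_
      by_cases hc : c = 0
      · subst hc
        rw [if_pos rfl, AddChar.map_zero_eq_one]
        ring
      · rw [if_neg hc, add_zero, card_level Q hQs hc]
    rw [h3, Finset.sum_add_distrib, ← Finset.mul_sum, h2, mul_zero, zero_add, Finset.sum_ite_eq' Finset.univ (0 : F),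
      if_pos (Finset.mem_univ _)]
  · have h1 : Nat.card U = ∑ c : F, Nat.card {v : U // Q v = c} := by
      rw [Nat.card_eq_fintype_card, ← Finset.card_univ, Finset.card_eq_sum_card_fiberwise (f := Q) (t := Finset.univ)
        (fun _ _ => Finset.mem_coe.2 (Finset.mem_univ _))]
      exact Finset.sum_congr rfl fun c _ => hfib c
    rw [h1, ← Finset.add_sum_erase Finset.univ _ (Finset.mem_univ (0 : F)),
      Finset.sum_congr rfl fun c hc => card_level Q hQs (Finset.ne_of_mem_erase hc), Finset.sum_const, smul_eq_mul,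
      Finset.card_erase_of_mem (Finset.mem_univ _), Finset.card_univ]

/-- an isometry of prime order without nonzero fixed vectors -/
theorem dvd_level {U : Type*} [AddCommGroup U] [Module F U] [Finite U] (Q : U → F) {p : ℕ} (hp : p.Prime)
    (g : Module.End F U) (hg : ∀ v, Q (g v) = Q v) (hgp : g ^ p = 1) (hfix : ∀ v, g v = v → v = 0)
    (hQ0 : Q 0 = 0) : p ∣ Nat.card {v : U // Q v = 1} := by
  classical
  have := Fact.mk hp
  have := Fintype.ofFinite U
  let f : Function.End {v : U // Q v = 1} := fun v => ⟨g v, by rw [hg, v.2]⟩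
  have hfk : ∀ (k : ℕ) (v : {v : U // Q v = 1}), (((f ^ k) v : {v : U // Q v = 1}) : U) = (g ^ k) v := by
    intro k
    induction k with
    | zero => intro v; rfl
    | succ k ih =>
      intro v
      rw [pow_succ', pow_succ']
      show g (((f ^ k) v : {v : U // Q v = 1}) : U) = g ((g ^ k) v)
      rw [ih]
  have hf : f ^ p ^ 1 = 1 := by
    rw [pow_one]
    funext v
    apply Subtype.ext
    rw [hfk, hgp]
    rfl
  have h1 := Equiv.Perm.card_fixedPoints_modEq hf
  have h2 : IsEmpty f.fixedPoints := by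
    refine ⟨fun v => ?_⟩
    have h3 : g (v : {v : U // Q v = 1}) = (v : {v : U // Q v = 1}) := congrArg Subtype.val v.2
    have h4 := (v : {v : U // Q v = 1}).2
    rw [hfix _ h3, hQ0] at h4
    exact zero_ne_one h4
  rw [Fintype.card_eq_zero (α := f.fixedPoints)] at h1
  rw [Nat.card_eq_fintype_card]
  exact (Nat.modEq_zero_iff_dvd).1 h1

/-- no nonzero singular vectors in dimension 2 -/
theorem tot_aniso {U : Type*} [AddCommGroup U] [Module F U] [Finite U] (hU : finrank F U = 2) (Q : U → F)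
    (hQs : ∀ (a : F) v, Q (a • v) = a ^ 2 * Q v) {ψ : AddChar F ℂ} (hψ : ψ ≠ 1) (hsing : ∀ v, Q v = 0 → v = 0) :
    tot (fun v : U => ψ (Q v)) = -(Fintype.card F : ℂ) ∧ Nat.card {v : U // Q v = 1} = Fintype.card F + 1 := by
  have := Fintype.ofFinite U
  have hQ0 : Q 0 = 0 := by
    have := hQs 0 0
    rwa [zero_smul, sq, zero_mul, zero_mul] at this
  obtain ⟨h1, h2⟩ := tot_level Q hQs hψ
  have h3 : Nat.card {v : U // Q v = 0} = 1 := by
    rw [Nat.card_eq_one_iff_unique]
    exact ⟨⟨fun a b => Subtype.ext ((hsing _ a.2).trans (hsing _ b.2).symm)⟩, ⟨⟨0, hQ0⟩⟩⟩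
  have hcU : Nat.card U = Fintype.card F ^ 2 := by
    rw [Module.natCard_eq_pow_finrank (K := F) (V := U), hU, Nat.card_eq_fintype_card]
  have hq : 1 < Fintype.card F := Fintype.one_lt_card
  have h4 : Nat.card {v : U // Q v = 1} = Fintype.card F + 1 := by
    rw [h3, hcU] at h2
    obtain ⟨k, hk⟩ : ∃ k, Fintype.card F = k + 1 := ⟨Fintype.card F - 1, by omega⟩
    rw [hk] at h2 ⊢
    rw [Nat.add_sub_cancel] at h2
    have hk0 : 0 < k := by omega
    have h5 : k * Nat.card {v : U // Q v = 1} = k * (k + 1 + 1) := by linarith only [h2]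
    exact Nat.eq_of_mul_eq_mul_left hk0 h5
  refine ⟨?_, h4⟩
  rw [h1, h3, h4]
  push_cast
  ring

/-- a hyperbolic plane -/
theorem tot_hyper {U : Type*} [AddCommGroup U] [Module F U] [Finite U] (hU : finrank F U = 2) (Q : U → F)
    (B : U →ₗ[F] U →ₗ[F] F) (hQ : ∀ u v, Q (u + v) = Q u + Q v + B u v)
    (hQs : ∀ (a : F) v, Q (a • v) = a ^ 2 * Q v) (halt : ∀ v, B v v = 0) (hnd : ∀ v, (∀ w, B v w = 0) → v = 0)
    {ψ : AddChar F ℂ} (hψ : ψ.IsPrimitive) {u : U} (hu : u ≠ 0) (hQu : Q u = 0) :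
    tot (fun v : U => ψ (Q v)) = (Fintype.card F : ℂ) := by
  classical
  have : FiniteDimensional F U := Module.finite_of_finrank_pos (by omega)
  obtain ⟨w, hw⟩ : ∃ w, B u w ≠ 0 := by
    by_contra h
    push Not at h
    exact hu (hnd u h)
  let v : U := (B u w)⁻¹ • w
  have huv : B u v = 1 := by
    show B u ((B u w)⁻¹ • w) = 1
    rw [map_smul, smul_eq_mul, inv_mul_cancel₀ hw]
  let f : (F × F) →ₗ[F] U :=
    { toFun := fun x => x.1 • u + x.2 • v
      map_add' := fun x y => by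
        show (x.1 + y.1) • u + (x.2 + y.2) • v = _
        rw [add_smul, add_smul]
        abel
      map_smul' := fun c x => by
        show (c * x.1) • u + (c * x.2) • v = c • (x.1 • u + x.2 • v)
        rw [smul_add, mul_smul, mul_smul] }
  have hBf : ∀ x : F × F, B u (f x) = x.2 := by
    intro x
    show B u (x.1 • u + x.2 • v) = _
    rw [map_add, map_smul, map_smul, halt, huv, smul_zero, zero_add, smul_eq_mul, mul_one]
  have hinj : Function.Injective f := by
    rw [injective_iff_map_eq_zero]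
    intro x hx
    have h2 : x.2 = 0 := by rw [← hBf x, hx, map_zero]
    have h1 : x.1 • u + x.2 • v = 0 := hx
    rw [h2, zero_smul, add_zero] at h1
    rcases smul_eq_zero.1 h1 with h | h
    · exact Prod.ext h h2
    · exact absurd h hu
  have hbij : Function.Bijective f := by
    refine ⟨hinj, (LinearMap.injective_iff_surjective_of_finrank_eq_finrank ?_).1 hinj⟩
    rw [hU, Module.finrank_prod, Module.finrank_self]
  have hQf : ∀ x : F × F, Q (f x) = x.2 ^ 2 * Q v + x.1 * x.2 := by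
    intro x
    show Q (x.1 • u + x.2 • v) = _
    have h1 : B (x.1 • u) (x.2 • v) = x.1 * x.2 := by
      rw [LinearMap.map_smul₂, (B u).map_smul x.2 v, huv, smul_eq_mul, smul_eq_mul, mul_one]
    rw [hQ, hQs, hQs, hQu, mul_zero, zero_add, h1]
  rw [← tot_equiv (Equiv.ofBijective f hbij)]
  show tot (fun x : F × F => ψ (Q (f x))) = _
  rw [tot_eq, Fintype.sum_prod_type_right]
  have h1 : ∀ y : F, ∑ x : F, ψ (Q (f (x, y))) = if y = 0 then (Fintype.card F : ℂ) else 0 := by
    intro y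
    have h2 : ∀ x : F, ψ (Q (f (x, y))) = ψ (y ^ 2 * Q v) * ψ (x * y) := by
      intro x
      rw [hQf, AddChar.map_add_eq_mul]
    rw [Finset.sum_congr rfl fun x _ => h2 x, ← Finset.mul_sum, AddChar.sum_mulShift y hψ]
    by_cases hy : y = 0
    · rw [if_pos hy, if_pos hy, hy, sq, zero_mul, zero_mul, AddChar.map_zero_eq_one, one_mul]
    · rw [if_neg hy, if_neg hy, Nat.cast_zero, mul_zero]
  rw [Finset.sum_congr rfl fun y _ => h1 y, Finset.sum_ite_eq' Finset.univ (0 : F), if_pos (Finset.mem_univ _)]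

/-- **nondegenerate planes with an isometry of odd prime order** -/
theorem plane {U : Type*} [AddCommGroup U] [Module F U] [Finite U] (hU : finrank F U = 2) (Q : U → F)
    (B : U →ₗ[F] U →ₗ[F] F) (hQ : ∀ u v, Q (u + v) = Q u + Q v + B u v)
    (hQs : ∀ (a : F) v, Q (a • v) = a ^ 2 * Q v) (halt : ∀ v, B v v = 0) (hnd : ∀ v, (∀ w, B v w = 0) → v = 0)
    {ψ : AddChar F ℂ} (hψ : ψ.IsPrimitive) {p : ℕ} (hp : p.Prime) (hp2 : p ≠ 2)
    (g : Module.End F U) (hg : ∀ v, Q (g v) = Q v) (hgp : g ^ p = 1) (hfix : ∀ v, g v = v → v = 0) :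
    tot (fun v : U => ψ (Q v)) = (if p ∣ Fintype.card F - 1 then 1 else -1) * (Fintype.card F : ℂ) := by
  have hψ1 : ψ ≠ 1 := by
    have := hψ one_ne_zero
    rwa [AddChar.mulShift_one] at this
  have hQ0 : Q 0 = 0 := by
    have := hQs 0 0
    rwa [zero_smul, sq, zero_mul, zero_mul] at this
  have hd := dvd_level Q hp g hg hgp hfix hQ0
  have hq : 1 < Fintype.card F := Fintype.one_lt_card
  by_cases hs : ∃ u, u ≠ 0 ∧ Q u = 0
  · obtain ⟨u, hu, hQu⟩ := hs
    have ht := tot_hyper hU Q B hQ hQs halt hnd hψ hu hQu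
    obtain ⟨h1, h2⟩ := tot_level Q hQs hψ1
    have hcU : Nat.card U = Fintype.card F ^ 2 := by
      rw [Module.natCard_eq_pow_finrank (K := F) (V := U), hU, Nat.card_eq_fintype_card]
    have h3 : Nat.card {v : U // Q v = 0} = Fintype.card F + Nat.card {v : U // Q v = 1} := by
      have : (Nat.card {v : U // Q v = 0} : ℂ) = Fintype.card F + Nat.card {v : U // Q v = 1} := by
        rw [← ht, h1]; ring
      exact_mod_cast this
    have h4 : Nat.card {v : U // Q v = 1} = Fintype.card F - 1 := by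
      rw [h3, hcU] at h2
      obtain ⟨k, hk⟩ : ∃ k, Fintype.card F = k + 1 := ⟨Fintype.card F - 1, by omega⟩
      rw [hk] at h2 ⊢
      rw [Nat.add_sub_cancel] at h2 ⊢
      have h5 : (k + 1) * Nat.card {v : U // Q v = 1} = (k + 1) * k := by linarith only [h2]
      exact Nat.eq_of_mul_eq_mul_left (Nat.succ_pos k) h5
    rw [h4] at hd
    rw [ht, if_pos hd, one_mul]
  · push Not at hs
    obtain ⟨h1, h2⟩ := tot_aniso hU Q hQs hψ1 fun v hv => by
      by_contra h
      exact hs v h hv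
    rw [h2] at hd
    rw [h1, if_neg, neg_one_mul]
    intro h3
    have h4 : p ∣ 2 := by
      have := (Nat.dvd_sub hd h3)
      have e : Fintype.card F + 1 - (Fintype.card F - 1) = 2 := by omega
      rwa [e] at this
    exact hp2 ((Nat.prime_dvd_prime_iff_eq hp Nat.prime_two).1 h4)

end Cfsg.Agent.BiChar.OmM

end

-- merged: Cfsg.Agent.BiChar.GaussOrth
section

/-!
# Elementary abelian groups of isometries of maximal rank in characteristic 2 (helper11)

`gauss` : an elementary abelian `p`-group of order `p ^ n` of isometries of a nondegenerate quadratic space of dimension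
`2 n` over `F_q`, `q` even, `p` odd, forces the Gauss sum of the form to be `(ε q) ^ n`.
-/

set_option autoImplicit false
set_option linter.unusedSectionVars false

namespace Cfsg.Agent.BiChar.OmM

open Module Cfsg.Agent.SigZeroU5

universe u v

/-- the orthogonal decomposition of a group of isometries of order prime to the characteristic -/
theorem exists_orth {K V A : Type*} [Field K] [AddCommGroup V] [Module K V] [Group A] [Finite A]
    (hA : (Nat.card A : K) ≠ 0) (ρ : A →* Module.End K V) (B : V →ₗ[K] V →ₗ[K] K)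
    (hpres : ∀ a v w, B (ρ a v) (ρ a w) = B v w) :
    ∃ C S : Submodule K V, IsCompl C S ∧ (∀ c ∈ C, ∀ s ∈ S, B c s = 0) ∧ (∀ v, v ∈ C ↔ ∀ a, ρ a v = v) ∧
      ∀ g : Module.End K V, (∀ a v, g (ρ a v) = ρ a (g v)) → ∀ v ∈ S, g v ∈ S := by
  let _ : Fintype A := Fintype.ofFinite A
  let e : Module.End K V := (Nat.card A : K)⁻¹ • ∑ a : A, ρ a
  have he : ∀ v, e v = (Nat.card A : K)⁻¹ • ∑ a : A, ρ a v := by
    intro v
    change ((Nat.card A : K)⁻¹ • ∑ a : A, ρ a) v = _
    rw [LinearMap.smul_apply, LinearMap.sum_apply]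
  let C : Submodule K V :=
    { carrier := {v | ∀ a : A, ρ a v = v}
      add_mem' := fun {x y} hx hy a => by rw [map_add, hx a, hy a]
      zero_mem' := fun a => map_zero _
      smul_mem' := fun c x hx a => by rw [map_smul, hx a] }
  have hCe : ∀ v ∈ C, e v = v := by
    intro v hv
    rw [he, Finset.sum_congr rfl fun a _ => hv a, Finset.sum_const, Finset.card_univ, ← Nat.card_eq_fintype_card,
      ← Nat.cast_smul_eq_nsmul K, smul_smul, inv_mul_cancel₀ hA, one_smul]
  have heC : ∀ v, e v ∈ C := by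
    intro v b
    rw [he, map_smul, map_sum]
    congr 1
    refine (Finset.sum_congr rfl fun a _ => ?_).trans (Equiv.sum_comp (Equiv.mulLeft b) fun a : A => ρ a v)
    rw [← Module.End.mul_apply, ← map_mul]
    rfl
  let S : Submodule K V := LinearMap.ker e
  have hCS : C ⊓ S = ⊥ := by
    rw [eq_bot_iff]
    rintro v ⟨hv1, hv2⟩
    rw [Submodule.mem_bot, ← hCe v hv1]
    exact hv2
  have hdec : ∀ v, v - e v ∈ S := by
    intro v
    change e (v - e v) = 0
    rw [map_sub, hCe _ (heC v), sub_self]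
  refine ⟨C, S, ⟨disjoint_iff.2 hCS, codisjoint_iff.2 ?_⟩, ?_, fun v => Iff.rfl, ?_⟩
  · rw [eq_top_iff]
    intro v _
    have h2 : v = e v + (v - e v) := by abel
    rw [h2]
    exact Submodule.add_mem_sup (heC v) (hdec v)
  · intro c hc s hs
    have h2 : ∀ a : A, B c (ρ a s) = B c s := by
      intro a
      conv_lhs => rw [← hc a]
      exact hpres _ _ _
    have h3 : B c (e s) = B c s := by
      rw [he, map_smul, map_sum, Finset.sum_congr rfl fun a _ => h2 a, Finset.sum_const, Finset.card_univ,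
        ← Nat.card_eq_fintype_card, ← Nat.cast_smul_eq_nsmul K, smul_smul, inv_mul_cancel₀ hA, one_smul]
    rw [← h3, LinearMap.mem_ker.1 hs, map_zero]
  · intro g hg v hv
    change e (g v) = 0
    have h2 : e (g v) = g (e v) := by
      rw [he, he, map_smul, map_sum]
      congr 1
      exact Finset.sum_congr rfl fun a _ => (hg a v).symm
    have h3 : e v = 0 := hv
    rw [h2, h3, map_zero]

section Alt

variable {K V : Type*} [Field K] [AddCommGroup V] [Module K V] (B : V →ₗ[K] V →ₗ[K] K) (halt : ∀ v, B v v = 0)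
  (hnd : ∀ v, (∀ w, B v w = 0) → v = 0)

include halt in
theorem anti (v w : V) : B v w = - B w v := by
  have h2 := halt (v + w)
  rw [map_add, map_add, LinearMap.add_apply, LinearMap.add_apply, halt, halt, zero_add, add_zero] at h2
  linear_combination h2

/-- the restriction of the form -/
def resB (C : Submodule K V) : C →ₗ[K] C →ₗ[K] K := (B.comp C.subtype).compl₂ C.subtype

theorem resB_apply (C : Submodule K V) (v w : C) : resB B C v w = B v w := rfl

include hnd in
/-- an orthogonal summand is nondegenerate -/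
theorem nondeg_left {C S : Submodule K V} (hCS : IsCompl C S) (hperp : ∀ c ∈ C, ∀ s ∈ S, B c s = 0) (v : C)
    (hv : ∀ w : C, resB B C v w = 0) : v = 0 := by
  apply Subtype.ext
  apply hnd
  intro w
  obtain ⟨c, hc, s, hs, rfl⟩ := Submodule.mem_sup.1 (hCS.sup_eq_top ▸ Submodule.mem_top : w ∈ C ⊔ S)
  rw [map_add, hperp _ v.2 _ hs, add_zero]
  exact hv ⟨c, hc⟩

include halt hnd in
/-- an orthogonal summand is not of dimension one -/
theorem finrank_ne_one {C S : Submodule K V} (hCS : IsCompl C S) (hperp : ∀ c ∈ C, ∀ s ∈ S, B c s = 0) :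
    finrank K C ≠ 1 := by
  intro hC1
  obtain ⟨v, hv0, hv⟩ := finrank_eq_one_iff'.1 hC1
  apply hv0
  refine nondeg_left B hnd hCS hperp v fun w => ?_
  obtain ⟨c, rfl⟩ := hv w
  rw [map_smul, resB_apply, halt, smul_zero]

include halt in
theorem perp_symm {C S : Submodule K V} (hperp : ∀ c ∈ C, ∀ s ∈ S, B c s = 0) : ∀ s ∈ S, ∀ c ∈ C, B s c = 0 := by
  intro s hs c hc
  rw [anti B halt, hperp c hc s hs, neg_zero]

end Alt

variable {F : Type u} [Field F] [Fintype F] [CharP F 2]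

theorem add_self_zero {V : Type*} [AddCommGroup V] [Module F V] (v : V) : v + v = 0 := by
  rw [← two_smul F v, CharTwo.two_eq_zero, zero_smul]

theorem alt_of {V : Type*} [AddCommGroup V] [Module F V] (Q : V → F) (B : V →ₗ[F] V →ₗ[F] F)
    (hQ : ∀ u v, Q (u + v) = Q u + Q v + B u v) (hQs : ∀ (a : F) v, Q (a • v) = a ^ 2 * Q v) (v : V) : B v v = 0 := by
  have hQ0 : Q 0 = 0 := by
    have := hQs 0 0
    rwa [zero_smul, sq, zero_mul, zero_mul] at this
  have h := hQ v v
  rw [add_self_zero (F := F), hQ0, CharTwo.add_self_eq_zero, zero_add] at h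
  exact h.symm

theorem pres_of {V : Type*} [AddCommGroup V] [Module F V] (Q : V → F) (B : V →ₗ[F] V →ₗ[F] F)
    (hQ : ∀ u v, Q (u + v) = Q u + Q v + B u v) (g : Module.End F V) (hg : ∀ v, Q (g v) = Q v) (v w : V) :
    B (g v) (g w) = B v w := by
  have h1 := hQ (g v) (g w)
  rw [← map_add, hg, hg, hg, hQ] at h1
  exact (add_left_cancel h1).symm

/-- **the Gauss sum of a quadratic space with an elementary abelian group of maximal rank** -/
theorem gauss {ψ : AddChar F ℂ} (hψ : ψ.IsPrimitive) {p : ℕ} (hp : p.Prime) (hp2 : p ≠ 2) :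
    ∀ (n : ℕ) (V : Type v) [AddCommGroup V] [Module F V] [Finite V] (_ : finrank F V = 2 * n)
      (Q : V → F) (B : V →ₗ[F] V →ₗ[F] F) (_ : ∀ u v, Q (u + v) = Q u + Q v + B u v)
      (_ : ∀ (a : F) v, Q (a • v) = a ^ 2 * Q v) (_ : ∀ v, (∀ w, B v w = 0) → v = 0)
      (A : Type v) [CommGroup A] [Finite A] (_ : ∀ a : A, a ^ p = 1) (ρ : A →* Module.End F V)
      (_ : Function.Injective ρ) (_ : ∀ a v, Q (ρ a v) = Q v), Nat.card A = p ^ n →
      tot (fun v : V => ψ (Q v)) = ((if p ∣ Fintype.card F - 1 then 1 else -1) * (Fintype.card F : ℂ)) ^ n := by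
  have hF : (p : F) ≠ 0 := by
    intro h
    have h1 : 2 ∣ p := (CharP.cast_eq_zero_iff F 2 p).1 h
    exact hp2 ((Nat.prime_dvd_prime_iff_eq Nat.prime_two hp).1 h1).symm
  intro n
  induction n with
  | zero =>
    intro V _ _ _ hn Q B hQ hQs hnd A _ _ hexp ρ hinj hρ hcard
    have : Fintype V := Fintype.ofFinite V
    have : FiniteDimensional F V := inferInstance
    have : Subsingleton V := finrank_zero_iff.1 (by rw [hn])
    have hQ0 : Q 0 = 0 := by
      have := hQs 0 0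
      rwa [zero_smul, sq, zero_mul, zero_mul] at this
    rw [tot_eq, Fintype.sum_subsingleton _ (0 : V), hQ0, AddChar.map_zero_eq_one, pow_zero]
  | succ n ih =>
    intro V _ _ _ hn Q B hQ hQs hnd A _ _ hexp ρ hinj hρ hcard
    have hfd : FiniteDimensional F V := inferInstance
    have halt := alt_of Q B hQ hQs
    have hpres : ∀ a v w, B (ρ a v) (ρ a w) = B v w := fun a => pres_of Q B hQ (ρ a) (hρ a)
    obtain ⟨W, hW, hW0, hWirr⟩ := exists_minimal_invariant ρ (by omega)
    let f := restr ρ W hW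
    let N := f.ker
    have h1 : Nat.card (A ⧸ N) ≤ p := card_quotient_le hp hexp f hWirr
    have hcN : (Nat.card N : F) ≠ 0 := card_cast_ne_zero hp hF (A := N) fun a => Subtype.ext (hexp a)
    obtain ⟨C, S, hCS, hperp, hC, hS⟩ := exists_orth hcN (ρ.comp N.subtype) B fun a v w => hpres a v w
    have hcomm : ∀ (a b : A) v, ρ a (ρ b v) = ρ b (ρ a v) := by
      intro a b v
      rw [← Module.End.mul_apply, ← Module.End.mul_apply, ← map_mul, ← map_mul, mul_comm]
    have hSA : ∀ a : A, ∀ v ∈ S, ρ a v ∈ S := fun a => hS (ρ a) fun b v => hcomm a b v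
    have hCA : ∀ a : A, ∀ v ∈ C, ρ a v ∈ C := by
      intro a v hv
      rw [hC] at hv ⊢
      intro b
      show ρ (b : A) (ρ a v) = ρ a v
      rw [hcomm]
      exact congrArg (ρ a) (hv b)
    have hWC : W ≤ C := by
      intro w hw
      rw [hC]
      intro a
      have h2 := LinearMap.congr_fun (MonoidHom.mem_ker.1 a.2) ⟨w, hw⟩
      exact congrArg Subtype.val h2
    have hdim : finrank F C + finrank F S = 2 * (n + 1) := by
      rw [← hn]
      exact Submodule.finrank_add_eq_of_isCompl hCS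
    have hC2 : 2 ≤ finrank F C := by
      have h2 := finrank_ne_one B halt hnd hCS hperp
      have hC0 : finrank F C ≠ 0 := by
        intro h
        have h2 : C = ⊥ := Submodule.finrank_eq_zero.1 h
        apply hW0
        rw [eq_bot_iff, ← h2]
        exact hWC
      omega
    -- the action of `N` on `S`
    have hSN : ∀ a : N, S ≤ S.comap ((ρ.comp N.subtype) a) := fun a v hv => hSA a v hv
    have hNinj : Function.Injective (restr (ρ.comp N.subtype) S hSN) := by
      rw [injective_iff_map_eq_one]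
      intro a ha
      apply Subtype.ext
      apply hinj
      rw [OneMemClass.coe_one, map_one]
      ext v
      obtain ⟨c, hc, s, hs, rfl⟩ := Submodule.mem_sup.1 (hCS.sup_eq_top ▸ Submodule.mem_top : v ∈ C ⊔ S)
      have h4 : ρ (a : A) s = s := congrArg Subtype.val (LinearMap.congr_fun ha ⟨s, hs⟩)
      have h5 : ρ (a : A) c = c := (hC c).1 hc a
      rw [map_add, h4, h5, Module.End.one_apply]
    have hndS : ∀ v : S, (∀ w : S, resB B S v w = 0) → v = 0 :=
      nondeg_left B hnd hCS.symm (perp_symm B halt hperp)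
    have h2 : Nat.card N ^ 2 ≤ p ^ finrank F S :=
      card_sq_le_of_symp hp hF (finrank F S) S rfl (resB B S) (fun v => halt v) hndS N
        (fun a => Subtype.ext (hexp a)) (restr (ρ.comp N.subtype) S hSN) hNinj fun a v w => hpres a v w
    have h3 : Nat.card A = Nat.card (A ⧸ N) * Nat.card N := Subgroup.card_eq_card_quotient_mul_card_subgroup _
    have hp1 : 1 < p := hp.one_lt
    have h4 : p ^ n ≤ Nat.card N := by
      have h5 : p * p ^ n ≤ p * Nat.card N := by
        rw [← pow_succ', ← hcard, h3]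
        exact Nat.mul_le_mul_right _ h1
      exact Nat.le_of_mul_le_mul_left h5 hp.pos
    have h5 : 2 * n ≤ finrank F S := by
      have h6 : p ^ (n * 2) ≤ p ^ finrank F S := by
        rw [pow_mul]
        exact (Nat.pow_le_pow_left h4 2).trans h2
      have := (Nat.pow_le_pow_iff_right hp1).1 h6
      omega
    have hdS : finrank F S = 2 * n := by omega
    have hdC : finrank F C = 2 := by omega
    have h6 : Nat.card N = p ^ n := by
      refine le_antisymm ?_ h4
      rw [hdS, mul_comm, pow_mul] at h2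
      exact (Nat.pow_le_pow_iff_left (by norm_num)).1 h2
    have h7 : Nat.card (A ⧸ N) = p := by
      rw [hcard, h6, pow_succ'] at h3
      exact (Nat.eq_of_mul_eq_mul_right (pow_pos hp.pos n) h3).symm
    -- the factor on `S`
    have h8 : tot (fun v : S => ψ (Q v)) =
        ((if p ∣ Fintype.card F - 1 then 1 else -1) * (Fintype.card F : ℂ)) ^ n :=
      ih S hdS (fun v => Q v) (resB B S) (fun u v => hQ u v) (fun a v => hQs a v) hndS N
        (fun a => Subtype.ext (hexp a)) (restr (ρ.comp N.subtype) S hSN) hNinj (fun a v => hρ a v) h6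
    -- the factor on `C`
    obtain ⟨a, ha⟩ : ∃ a : A, a ∉ N := by
      by_contra h
      push Not at h
      have h9 : N = ⊤ := eq_top_iff.2 fun a _ => h a
      have h10 : Nat.card (A ⧸ N) = 1 := by rw [← Subgroup.index_eq_card, h9, Subgroup.index_top]
      omega
    have haC : ∀ v ∈ C, ρ a v ∈ C := hCA a
    let g : Module.End F C := (ρ a).restrict haC
    have hgk : ∀ (k : ℕ) (v : C), (((g ^ k) v : C) : V) = ρ (a ^ k) v := by
      intro k
      induction k with
      | zero => intro v; rw [pow_zero, pow_zero, map_one]; rfl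
      | succ k ihk =>
        intro v
        rw [pow_succ', pow_succ', map_mul, Module.End.mul_apply, Module.End.mul_apply, ← ihk]
        rfl
    have hgp : g ^ p = 1 := by
      ext v
      rw [hgk, hexp, map_one]
      rfl
    have hndC : ∀ v : C, (∀ w : C, resB B C v w = 0) → v = 0 := nondeg_left B hnd hCS hperp
    -- no fixed points
    have hfix : ∀ v : C, g v = v → v = 0 := by
      let Z := Subgroup.zpowers a
      have hcZ : (Nat.card Z : F) ≠ 0 := card_cast_ne_zero hp hF (A := Z) fun a => Subtype.ext (hexp a)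
      have hCZ : ∀ b : Z, C ≤ C.comap ((ρ.comp Z.subtype) b) := fun b v hv => hCA b v hv
      obtain ⟨C', S', hCS', hperp', hC', -⟩ := exists_orth hcZ (restr (ρ.comp Z.subtype) C hCZ) (resB B C)
        fun b v w => hpres b v w
      have hdim' : finrank F C' + finrank F S' = 2 := by
        rw [← hdC]
        exact Submodule.finrank_add_eq_of_isCompl hCS'
      have hne1 := finrank_ne_one (resB B C) (fun v => halt v) hndC hCS' hperp'
      have hC'g : ∀ v : C, v ∈ C' ↔ g v = v := by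
        intro v
        rw [hC']
        constructor
        · intro h
          exact h ⟨a, Subgroup.mem_zpowers a⟩
        · rintro h ⟨b, k, rfl⟩
          have h9 : ρ a (v : V) = v := congrArg Subtype.val h
          have h10 : ∀ m : ℕ, ρ (a ^ m) (v : V) = v := by
            intro m
            induction m with
            | zero => rw [pow_zero, map_one]; rfl
            | succ m ihm => rw [pow_succ, map_mul, Module.End.mul_apply, h9, ihm]
          apply Subtype.ext
          show ρ (a ^ k) (v : V) = v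
          obtain ⟨m, rfl | rfl⟩ := Int.eq_nat_or_neg k
          · rw [zpow_natCast, h10]
          · have h11 : a ^ (-(m : ℤ)) = a ^ (m * (p - 1)) := by
              rw [zpow_neg, zpow_natCast, inv_eq_iff_mul_eq_one, ← pow_add]
              have h12 : m + m * (p - 1) = p * m := by
                obtain ⟨k, hk⟩ : ∃ k, p = k + 1 := ⟨p - 1, by omega⟩
                rw [hk, Nat.add_sub_cancel]
                ring
              rw [h12, pow_mul, hexp, one_pow]
            rw [h11, h10]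
      have hC'top : finrank F C' ≠ 2 := by
        intro h
        have h9 : C' = ⊤ := Submodule.eq_top_of_finrank_eq (by rw [h, hdC])
        apply ha
        show a ∈ f.ker
        rw [MonoidHom.mem_ker]
        ext w
        have h10 : (⟨w, hWC w.2⟩ : C) ∈ C' := by rw [h9]; trivial
        have h11 := congrArg Subtype.val ((hC'g _).1 h10)
        exact h11
      have hC'0 : finrank F C' = 0 := by omega
      intro v hv
      have h9 : C' = ⊥ := Submodule.finrank_eq_zero.1 hC'0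
      have h10 := (hC'g v).2 hv
      rwa [h9, Submodule.mem_bot] at h10
    have h9 := plane hdC (fun v : C => Q v) (resB B C) (fun u v => hQ u v) (fun a v => hQs a v) (fun v => halt v)
      hndC hψ hp hp2 g (fun v => hρ a v) hgp hfix
    rw [tot_compl ψ Q B hQ C S hCS hperp, h8, h9, pow_succ']

end Cfsg.Agent.BiChar.OmM

end

-- merged: Cfsg.Agent.BiChar.OmegaM
section

/-!
# `PΩ⁻₈(q)`, `q` even: the odd ranks are at most three (helper11)
-/

set_option autoImplicit false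
set_option linter.unusedSectionVars false

namespace Cfsg.Agent.BiChar.OmM

open Module QuadraticMap Cfsg Cfsg.Agent.SigZeroU5 Cfsg.Agent.LieClassical.OrthForms
  Cfsg.Agent.LieClassical.OrthCore

variable {F : Type} [Field F] [Fintype F] [CharP F 2]

/-! ### the Gauss sum of the form -/

/-- the hyperbolic part -/
theorem tot_hyp {ψ : AddChar F ℂ} (hψ : ψ.IsPrimitive) (m : ℕ) :
    tot (fun v : Fin m ⊕ Fin m → F => ψ (∑ i, v (.inl i) * v (.inr i))) = (Fintype.card F : ℂ) ^ m := by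
  classical
  rw [← tot_equiv (Equiv.sumArrowEquivProdArrow (Fin m) (Fin m) F).symm]
  show tot (fun x : (Fin m → F) × (Fin m → F) => ψ (∑ i, x.1 i * x.2 i)) = _
  rw [tot_eq, Fintype.sum_prod_type_right]
  have h1 : ∀ y : Fin m → F, ∑ x : Fin m → F, ψ (∑ i, x i * y i) =
      ∏ i, if y i = 0 then (Fintype.card F : ℂ) else 0 := by
    intro y
    have h2 : ∀ x : Fin m → F, ψ (∑ i, x i * y i) = ∏ i, ψ (x i * y i) := by
      intro x
      exact map_prod ψ.toMonoidHom (fun i => Multiplicative.ofAdd (x i * y i)) Finset.univ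
    rw [Finset.sum_congr rfl fun x _ => h2 x]
    have h3 := Finset.prod_univ_sum (fun _ : Fin m => (Finset.univ : Finset F)) (fun i t => ψ (t * y i))
    rw [Fintype.piFinset_univ] at h3
    rw [← h3]
    refine Finset.prod_congr rfl fun i _ => ?_
    rw [AddChar.sum_mulShift (y i) hψ]
    by_cases hy : y i = 0
    · rw [if_pos hy, if_pos hy]
    · rw [if_neg hy, if_neg hy, Nat.cast_zero]
  rw [Finset.sum_congr rfl fun y _ => h1 y]
  have h3 := Finset.prod_univ_sum (fun _ : Fin m => (Finset.univ : Finset F))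
    (fun _ t => if t = 0 then (Fintype.card F : ℂ) else 0)
  rw [Fintype.piFinset_univ] at h3
  rw [← h3, Finset.prod_congr rfl fun i _ => by
    rw [Finset.sum_ite_eq' Finset.univ (0 : F), if_pos (Finset.mem_univ _)], Finset.prod_const, Finset.card_univ,
    Fintype.card_fin]

/-- the form of minus type -/
theorem tot_minus {ψ : AddChar F ℂ} (hψ : ψ.IsPrimitive) (m : ℕ) (a b : F)
    (hab : ∀ z₁ z₂ : F, z₁ ^ 2 + a * z₁ * z₂ + b * z₂ ^ 2 = 0 → z₁ = 0 ∧ z₂ = 0) :
    tot (fun v : (Fin m ⊕ Fin m) ⊕ Fin 2 → F => ψ (quadFormMinus m F a b v)) =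
      -(Fintype.card F : ℂ) ^ (m + 1) := by
  have hψ1 : ψ ≠ 1 := by
    have := hψ one_ne_zero
    rwa [AddChar.mulShift_one] at this
  rw [← tot_equiv (Equiv.sumArrowEquivProdArrow (Fin m ⊕ Fin m) (Fin 2) F).symm]
  have h1 : (fun x : (Fin m ⊕ Fin m → F) × (Fin 2 → F) =>
      ψ (quadFormMinus m F a b ((Equiv.sumArrowEquivProdArrow (Fin m ⊕ Fin m) (Fin 2) F).symm x))) =
      fun x => ψ (∑ i, x.1 (.inl i) * x.1 (.inr i)) * ψ (x.2 0 ^ 2 + a * x.2 0 * x.2 1 + b * x.2 1 ^ 2) := by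
    funext x
    rw [← AddChar.map_add_eq_mul]
    rfl
  rw [h1]
  have h2 := (tot_aniso (F := F) (U := Fin 2 → F) (by simp) (fun z => z 0 ^ 2 + a * z 0 * z 1 + b * z 1 ^ 2)
    (fun c v => by simp only [Pi.smul_apply, smul_eq_mul]; ring) hψ1 (fun v hv => by
      obtain ⟨h0, h1⟩ := hab _ _ hv
      funext i
      fin_cases i
      · exact h0
      · exact h1)).1
  have h3 := tot_mul (fun v : Fin m ⊕ Fin m → F => ψ (∑ i, v (.inl i) * v (.inr i)))
    (fun z : Fin 2 → F => ψ (z 0 ^ 2 + a * z 0 * z 1 + b * z 1 ^ 2))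
  rw [h3, tot_hyp hψ, h2, pow_succ]
  ring

/-! ### the rank -/

section Rep

variable {ι : Type} [Fintype ι] [DecidableEq ι]

/-- The inclusion of `Ω(Q)` in the matrices. -/
def toM (Q : (ι → F) → F) : Omega F Q →* Matrix ι ι F :=
  (Units.coeHom (Matrix ι ι F)).comp ((isometryGroup F Q).subtype.comp (Omega F Q).subtype)

theorem toM_injective (Q : (ι → F) → F) : Function.Injective (toM Q) := fun _ _ h =>
  Subtype.ext (Subtype.ext (Units.ext h))

/-- the action on the space -/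
noncomputable def actM (Q : (ι → F) → F) : Omega F Q →* Module.End F (ι → F) :=
  ((Matrix.toLinAlgEquiv' : Matrix ι ι F ≃ₐ[F] _) : Matrix ι ι F →* _).comp (toM Q)

theorem actM_injective (Q : (ι → F) → F) : Function.Injective (actM Q) := fun a b h =>
  toM_injective Q (Matrix.toLinAlgEquiv'.injective h)

theorem actM_pres (Q : (ι → F) → F) (g : Omega F Q) (v : ι → F) : Q (actM Q g v) = Q v :=
  (g : isometryGroup F Q).2 v v

end Rep

/-- **`m_p(Ω⁻₈(q)) ≤ 3`** -/
theorem rank_omega (a b : F) (hab : ∀ z₁ z₂ : F, z₁ ^ 2 + a * z₁ * z₂ + b * z₂ ^ 2 = 0 → z₁ = 0 ∧ z₂ = 0)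
    {p : ℕ} (hp : p.Prime) (hp2 : p ≠ 2) : PRankLE p 3 (Omega F (quadFormMinus 3 F a b)) := by
  have hF : (p : F) ≠ 0 := by
    intro h
    have h1 : 2 ∣ p := (CharP.cast_eq_zero_iff F 2 p).1 h
    exact hp2 ((Nat.prime_dvd_prime_iff_eq Nat.prime_two hp).1 h1).symm
  intro A hA hAp
  by_contra hlt
  push Not at hlt
  let _ : CommGroup A := { (inferInstance : Group A) with mul_comm := hA.is_comm.comm }
  have hexp : ∀ x : A, x ^ p = 1 := fun x => Subtype.ext (hAp x x.2)
  have := Fact.mk hp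
  obtain ⟨k, hk⟩ := IsPGroup.iff_card.1 (fun x : A => (⟨1, by rw [pow_one, hexp]⟩ : ∃ k, x ^ p ^ k = 1))
  rw [hk] at hlt
  have hk4 : 3 < k := (Nat.pow_lt_pow_iff_right hp.one_lt).1 hlt
  let Q := minusForm 3 F a b
  have hQc : ∀ v, Q v = quadFormMinus 3 F a b v := fun v => by rw [← coe_minusForm]
  let B := polarBilin Q
  have hQ : ∀ u v, Q (u + v) = Q u + Q v + B u v := fun u v => QuadraticMap.map_add Q u v
  have hQs : ∀ (c : F) v, Q (c • v) = c ^ 2 * Q v := fun c v => by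
    rw [QuadraticMap.map_smul, smul_eq_mul, pow_two]
  have hnd : ∀ v, (∀ w, B v w = 0) → v = 0 := fun v hv => nondeg_minusForm 3 F a b hab v hv
  let ρ : A →* Module.End F ((Fin 3 ⊕ Fin 3) ⊕ Fin 2 → F) := (actM (quadFormMinus 3 F a b)).comp A.subtype
  have hρi : Function.Injective ρ := (actM_injective _).comp Subtype.val_injective
  have hρ : ∀ x v, Q (ρ x v) = Q v := fun x v => by
    rw [hQc, hQc]
    exact actM_pres _ _ v
  have hrk : finrank F ((Fin 3 ⊕ Fin 3) ⊕ Fin 2 → F) = 8 := by simp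
  have h8 := card_sq_le_of_symp hp hF 8 _ hrk B (alt_of Q B hQ hQs) hnd A hexp ρ hρi
    fun x => pres_of Q B hQ (ρ x) (hρ x)
  rw [hk, ← pow_mul] at h8
  have hk8 : k * 2 ≤ 8 := (Nat.pow_le_pow_iff_right hp.one_lt).1 h8
  have hk' : k = 4 := by omega
  subst hk'
  let ψ := AddChar.FiniteField.primitiveChar_to_Complex F
  have hψ : ψ.IsPrimitive := AddChar.FiniteField.primitiveChar_to_Complex_isPrimitive F
  have h1 := gauss hψ hp hp2 4 _ hrk Q B hQ hQs hnd A hexp ρ hρi hρ hk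
  have h2 := tot_minus hψ 3 a b hab
  simp only [hQc] at h1
  rw [h2] at h1
  have h3 : ((if p ∣ Fintype.card F - 1 then 1 else -1) * (Fintype.card F : ℂ)) ^ 4 = (Fintype.card F : ℂ) ^ 4 := by
    split_ifs
    · rw [one_mul]
    · rw [neg_one_mul]
      ring
  rw [h3] at h1
  have h4 : ((Fintype.card F : ℂ)) ^ 4 = 0 := by
    have h5 : (2 : ℂ) * (Fintype.card F : ℂ) ^ 4 = 0 := by
      linear_combination -h1
    rcases mul_eq_zero.1 h5 with h | h
    · norm_num at h
    · exact h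
  have h5 : (Fintype.card F : ℂ) = 0 := by
    exact pow_eq_zero_iff (by norm_num) |>.1 h4
  exact Fintype.card_ne_zero (Nat.cast_eq_zero.1 h5)

/-- **`m_p(PΩ⁻₈(q)) ≤ 3`** -/
theorem rank_of {G : Type*} [Group G] (a b : F)
    (hab : ∀ z₁ z₂ : F, z₁ ^ 2 + a * z₁ * z₂ + b * z₂ ^ 2 = 0 → z₁ = 0 ∧ z₂ = 0)
    (e : G ≃* POmega F (quadFormMinus 3 F a b)) {p : ℕ} (hp : p.Prime) (hp2 : p ≠ 2) : PRankLE p 3 G := by
  have hnd := nondeg_minusForm 3 F a b hab
  have hc : Subgroup.center (Omega F (quadFormMinus 3 F a b)) = ⊥ := by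
    have h1 : Subgroup.center (Omega F ⇑(minusForm 3 F a b)) = ⊥ := by
      refine Cfsg.Agent.LieClassical.OrthCenter.center_omega_eq_bot_char_two CharTwo.two_eq_zero ?_ ?_ ?_
      · refine ⟨fun x hx => hnd x fun y => hx y, fun x hx => hnd x fun y => ?_⟩
        rw [polar_comm]
        exact hx y
      · simp
      · refine ⟨Pi.single (Sum.inl (Sum.inl 0)) 1, ?_, ?_⟩
        · intro h0
          have := congrFun h0 (Sum.inl (Sum.inl 0))
          simp at this
        · rw [coe_minusForm, quadFormMinus_apply]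
          rw [Finset.sum_eq_zero fun i _ => by simp]
          simp
    rwa [coe_minusForm] at h1
  have e1 : G ≃* Omega F (quadFormMinus 3 F a b) :=
    (e.trans (QuotientGroup.quotientMulEquivOfEq hc)).trans QuotientGroup.quotientBot
  exact Cfsg.Agent.Sigma.Pair.pRankLE_congr e1.symm (rank_omega a b hab hp hp2)

universe w

/-- row `omegaMinus` of `BiChar.KillLie` -/
theorem kill : Kill.{w} (fun X _ => OmegaMinusEven (fun m _ => m = 4) X) := by
  rintro G _ _ ⟨F, _, _, _, m, a, b, rfl, hab, ⟨e⟩⟩ p hp hp2 hr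
  exact absurd hr (Cfsg.Agent.Sigma.Pair.not_pRankAtLeast_of_le hp (rank_of a b hab e hp hp2))

/-- row `omegaMinus` of `SigTab.Sig0Lie` -/
theorem sig0 : SigTab.Sig0.{w} (fun X _ => SigTab.OmegaMinusEven (fun m _ => m = 4) X) := by
  rintro G _ _ ⟨F, _, _, m, a, b, hF, rfl, hab, ⟨e⟩⟩
  have := SigTool.charP_two hF
  exact SigTool.sigma_empty_of_rank fun p hp hp2 => rank_of a b hab e hp hp2

end Cfsg.Agent.BiChar.OmM

end
end
end
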