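import Cfsg.Agent.HN.FactF4
import Cfsg.Agent.BiChar.SmallBase
import Cfsg.Agent.Lib.ThompsonPQ
import Cfsg.Agent.Co2Type.Quad
import Cfsg.Agent.SigZeroHN.Main
import Cfsg.Agent.KFacts.HN.Sheet
import Cfsg.Agent.BiChar.SmallTools_m3
import Cfsg.Agent.FastGrp
import Cfsg.Agent.Prune
set_option linter.all false
prune_inst 0x7f00000000000000000000000000000000000000000000000000000000000000000000000000000000000000000000000000000000000000000000000000000000000000000000000000000000000000003fffffffffffffffffffffffffffbeffbdffffffff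
open scoped Cfsg.Agent.FastGrp

-- merged: Cfsg.Agent.HN.FactF3
section

set_option autoImplicit false

/-!
`H0 = 2.HS.2`: the order of `C(d)` is `3840`; no element of order 7 commutes with `d` modulo `τ` (for S1752).
-/

namespace Cfsg.Agent.HN.FactF3

open Cfsg.Agent.HN.Pres Cfsg.Agent.HN.HS100 Cfsg.Agent.HN.P1408 Cfsg.Agent.HN.H0Basic Cfsg.Agent.HN.PC
open Cfsg.Agent.HN.Syl Cfsg.Agent.HN.Classes Cfsg.Agent.HN.CentUp Cfsg.Agent.HN.ForallS Cfsg.Agent.HN.FactF1
open Cfsg.Agent.HN.FactFA Cfsg.Agent.HN.FactF4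
open Cfsg.Agent.SporadicA.PermTab
open Equiv

/-- leading element: `L` are indices below `k` -/
theorem lead_mem {L : List ℕ} {k : ℕ} (hk : k < 11) (hL : ∀ i ∈ L, i < k) :
    hw (cat (L ++ [k])) ∈ P (k + 1) ∧ hw (cat (L ++ [k])) ∉ P k := by
  have hL' : hw (cat L) ∈ P k := hw_cat_mem (fun i hi => mem_Pc (hL i hi))
  have h1 : hw (cat (L ++ [k])) = hw (cat L) * s k := by
    rw [cat, List.flatMap_append, hw_append]
    congr 1
    simp only [List.flatMap_cons, List.flatMap_nil, List.append_nil]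
    rfl
  rw [h1]
  refine ⟨(P (k + 1)).mul_mem (Pc_mono (by omega) hL') (mem_Pc (by omega)), fun h => ?_⟩
  exact s_notMem hk ((Subgroup.mul_mem_cancel_left _ hL').1 h)

/-- Leading elements give a lower bound for the 2-part of the order. -/
theorem two_pow_le {C : Subgroup H0} {ks : List ℕ} (hks : ks.Nodup) (m : ℕ) (hm : m ≤ 11) (hlt : ∀ k ∈ ks, k < m)
    (h : ∀ k ∈ ks, ∃ g ∈ C, g ∈ P (k + 1) ∧ g ∉ P k) : 2 ^ ks.length ≤ Nat.card (C ⊓ P m : Subgroup H0) := by
  induction m generalizing ks with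
  | zero =>
    have : ks = [] := by
      rw [List.eq_nil_iff_forall_not_mem]
      intro k hk
      exact absurd (hlt k hk) (by omega)
    rw [this, List.length_nil, pow_zero]
    exact Nat.card_pos
  | succ m ih =>
    have hle : C ⊓ P m ≤ C ⊓ P (m + 1) := inf_le_inf_left C (Pc_mono (by omega))
    by_cases hm' : m ∈ ks
    · have h1 := ih (ks := ks.erase m) (hks.erase m) (by omega) (by
        intro k hk
        have h2 := List.mem_of_mem_erase hk
        have h3 := hlt k h2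
        have h4 : k ≠ m := by
          rintro rfl
          exact absurd hk hks.not_mem_erase
        omega) (fun k hk => h k (List.mem_of_mem_erase hk))
      rw [List.length_erase_of_mem hm'] at h1
      have hpos : 0 < ks.length := List.length_pos_of_mem hm'
      obtain ⟨g, hgC, hg1, hg2⟩ := h m hm'
      have hlt' : C ⊓ P m < C ⊓ P (m + 1) := lt_of_le_of_ne hle (fun he => hg2 (by
        have : g ∈ C ⊓ P (m + 1) := ⟨hgC, hg1⟩
        rw [← he] at this
        exact this.2))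
      obtain ⟨k, hk⟩ := Subgroup.card_dvd_of_le hle
      have hk2 : 2 ≤ k := by
        by_contra hk'
        have hpos' : 0 < Nat.card (C ⊓ P (m + 1) : Subgroup H0) := Nat.card_pos
        have : k = 1 := by
          rcases Nat.eq_zero_or_pos k with h0 | h0
          · rw [h0, mul_zero] at hk; omega
          · omega
        rw [this, mul_one] at hk
        exact absurd (Subgroup.eq_of_le_of_card_ge hle hk.le) hlt'.ne
      calc 2 ^ ks.length = 2 ^ (ks.length - 1) * 2 := by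
            rw [← pow_succ]; congr 1; omega
        _ ≤ Nat.card (C ⊓ P m : Subgroup H0) * k := Nat.mul_le_mul h1 hk2
        _ = Nat.card (C ⊓ P (m + 1) : Subgroup H0) := hk.symm
    · have h1 := ih hks (by omega) (by
        intro k hk
        have h3 := hlt k hk
        have h4 : k ≠ m := by rintro rfl; exact hm' hk
        omega) h
      exact h1.trans (Nat.card_le_card_of_injective _ (Subgroup.inclusion_injective hle))

theorem two_pow_dvd {C : Subgroup H0} {ks : List ℕ} (hks : ks.Nodup) (hlt : ∀ k ∈ ks, k < 11)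
    (h : ∀ k ∈ ks, ∃ g ∈ C, g ∈ P (k + 1) ∧ g ∉ P k) : 2 ^ ks.length ∣ Nat.card C := by
  have h1 := two_pow_le hks 11 le_rfl hlt h
  have h2 : Nat.card (C ⊓ P 11 : Subgroup H0) ∣ 2 ^ 11 := by
    rw [← card_S]
    exact Subgroup.card_dvd_of_le inf_le_right
  obtain ⟨j, _, hj⟩ := (Nat.dvd_prime_pow Nat.prime_two).1 h2
  rw [hj] at h1
  have h3 : ks.length ≤ j := (Nat.pow_le_pow_iff_right (by norm_num)).1 h1
  calc 2 ^ ks.length ∣ 2 ^ j := pow_dvd_pow 2 h3
    _ = Nat.card (C ⊓ P 11 : Subgroup H0) := hj.symm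
    _ ∣ Nat.card C := Subgroup.card_dvd_of_le inf_le_left

theorem card_centralizer_of_isConj {v w : H0} (h : IsConj v w) :
    Nat.card (Subgroup.centralizer {w} : Subgroup H0) = Nat.card (Subgroup.centralizer {v} : Subgroup H0) := by
  obtain ⟨c, rfl⟩ := isConj_iff.1 h
  have e : (Subgroup.centralizer {c * v * c⁻¹} : Subgroup H0) =
      (Subgroup.centralizer {v}).map (MulAut.conj c).toMonoidHom := by
    ext g
    rw [centralizer_singleton_mem]
    constructor
    · intro hg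
      refine ⟨c⁻¹ * g * c, ?_, ?_⟩
      · rw [SetLike.mem_coe, centralizer_singleton_mem]
        calc c⁻¹ * g * c * v = c⁻¹ * (g * (c * v * c⁻¹)) * c := by group
          _ = c⁻¹ * (c * v * c⁻¹ * g) * c := by rw [hg]
          _ = v * (c⁻¹ * g * c) := by group
      · change c * (c⁻¹ * g * c) * c⁻¹ = g
        group
    · rintro ⟨k, hk, rfl⟩
      rw [SetLike.mem_coe, centralizer_singleton_mem] at hk
      change c * k * c⁻¹ * (c * v * c⁻¹) = c * v * c⁻¹ * (c * k * c⁻¹)
      calc c * k * c⁻¹ * (c * v * c⁻¹) = c * (k * v) * c⁻¹ := by group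
        _ = c * (v * k) * c⁻¹ := by rw [hk]
        _ = c * v * c⁻¹ * (c * k * c⁻¹) := by group
  rw [e]
  exact (Nat.card_congr ((Subgroup.centralizer {v}).equivMapOfInjective _
    (MulAut.conj c).injective).toEquiv).symm

/-- a conjugate of `d` in `S` -/
def dS : List ℕ := cat [1, 2, 3, 4, 5, 7, 8]

/-- conjugating word -/
def cd : List ℕ := [2, 4, 2, 0, 3, 3, 0, 3, 1, 2, 2, 1, 2, 1]

/-- leading elements of `C_S(dS)` -/
def LD : List (List ℕ × ℕ) := [([], 0), ([], 1), ([], 2), ([], 3), ([], 4), ([], 7), ([5], 8), ([5, 6], 9)]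

theorem LD_ok : ∀ e ∈ LD, e.2 < 11 ∧ (∀ i ∈ e.1, i < e.2) ∧
    eqw (cat (e.1 ++ [e.2]) ++ dS) (dS ++ cat (e.1 ++ [e.2])) = true := by decide +kernel

theorem isConj_d_dS : IsConj d (hw dS) := by
  rw [isConj_iff]
  refine ⟨hw (iw cd), ?_⟩
  have h : eqw (iw cd ++ ([1, 3, 1, 2, 1, 4, 3, 4, 2, 4] ++ cd)) dS = true := by decide +kernel
  have h1 := hw_eq h
  rw [hw_append, hw_append] at h1
  rw [← h1, d, hw_iw, inv_inv, mul_assoc]

theorem two_pow_dvd_d : 2 ^ 8 ∣ Nat.card (Subgroup.centralizer {d} : Subgroup H0) := by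
  rw [← card_centralizer_of_isConj isConj_d_dS]
  refine two_pow_dvd (ks := LD.map Prod.snd) (by decide) ?_ ?_
  · intro k hk
    obtain ⟨e, he, rfl⟩ := List.mem_map.1 hk
    exact (LD_ok e he).1
  · intro k hk
    obtain ⟨e, he, rfl⟩ := List.mem_map.1 hk
    obtain ⟨h1, h2, h3⟩ := LD_ok e he
    refine ⟨hw (cat (e.1 ++ [e.2])), ?_, lead_mem h1 h2⟩
    rw [centralizer_singleton_mem, ← hw_append, ← hw_append]
    exact hw_eq h3

theorem prime_dvd_d {w : List ℕ} {p : ℕ} (hp : p.Prime)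
    (h1 : eqw (w ++ [1, 3, 1, 2, 1, 4, 3, 4, 2, 4]) ([1, 3, 1, 2, 1, 4, 3, 4, 2, 4] ++ w) = true)
    (h2 : hw w ^ p = 1) (h3 : hw w ≠ 1) : p ∣ Nat.card (Subgroup.centralizer {d} : Subgroup H0) := by
  refine prime_dvd_card (g := hw w) ?_ hp h2 h3
  rw [centralizer_singleton_mem, d, ← hw_append, ← hw_append]
  exact hw_eq h1

/-- **The order of `C(d)`.** -/
theorem card_centralizer_d : Nat.card (Subgroup.centralizer {d} : Subgroup H0) = 3840 := by
  apply le_antisymm CentUp.card_centralizer_d_le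
  have h3 : 3 ∣ Nat.card (Subgroup.centralizer {d} : Subgroup H0) := by
    refine prime_dvd_d (w := [3, 0, 2, 1]) Nat.prime_three (by decide +kernel) ?_ ?_
    · simp only [pow_succ, pow_zero, one_mul]
      rw [← hw_append, ← hw_append, ← hw_nil]
      exact hw_eq (by decide +kernel)
    · rw [← hw_nil]
      intro h
      exact absurd (eqw_of_hw_eq rfl rfl h) (by decide +kernel)
  have h5 : 5 ∣ Nat.card (Subgroup.centralizer {d} : Subgroup H0) := by
    refine prime_dvd_d (w := [3, 3, 0, 2, 2, 4, 2, 2, 2, 4, 2, 2, 1, 3]) Nat.prime_five (by decide +kernel) ?_ ?_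
    · simp only [pow_succ, pow_zero, one_mul]
      rw [← hw_append, ← hw_append, ← hw_append, ← hw_append, ← hw_nil]
      exact hw_eq (by decide +kernel)
    · rw [← hw_nil]
      intro h
      exact absurd (eqw_of_hw_eq rfl rfl h) (by decide +kernel)
  have h15 : 2 ^ 8 * (3 * 5) ∣ Nat.card (Subgroup.centralizer {d} : Subgroup H0) :=
    Nat.Coprime.mul_dvd_of_dvd_of_dvd (by norm_num) two_pow_dvd_d
      (Nat.Coprime.mul_dvd_of_dvd_of_dvd (by norm_num) h3 h5)
  exact Nat.le_of_dvd Nat.card_pos h15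

end Cfsg.Agent.HN.FactF3

end

-- merged: Cfsg.Agent.BiChar.HNFiveAbs
section

/-!
# S1798, HN, `p = 5`: the two abstract arguments (helper25)

* `sixteen_mul` : an element `b` of order 5 normalizing the 2-group `P` and not centralizing it satisfies
  `16 * |C_P(b)| ≤ |P|`;
* `not_two` : if `R` is a large extraspecial subgroup `2^(1+8)` of `C(z)` then no elementary abelian 5-group `B` of order
  at least 25 centralizes `z` and an involution `u ≠ z` commuting with `z`;
* `isPGroup_of_rels` : `⟨x, y⟩` is a 5-group if `x^5 = y^5 = c^5 = 1`, `c = [x, y]` commutes with `x` and `y`.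
-/

set_option autoImplicit false

namespace Cfsg.Agent.BiChar.HNFive

open Cfsg Subgroup Cfsg.Agent.Co2Type.Quad

variable {G : Type*} [Group G]

theorem sixteen_mul [Finite G] {P : Subgroup G} (hP : IsPGroup 2 P) {b : G} (hb : b ^ 5 = 1)
    (hn : ∀ x ∈ P, b * x * b⁻¹ ∈ P) (hne : ∃ x ∈ P, b * x ≠ x * b) :
    16 * Nat.card ↥(P ⊓ centralizer ({b} : Set G)) ≤ Nat.card P := by
  have h5 : Fact (Nat.Prime 5) := ⟨by norm_num⟩
  have hbn : zpowers b ≤ normalizer (P : Set G) := by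
    rw [zpowers_le, mem_normalizer_iff]
    have hbinv : b⁻¹ = b ^ 4 := by
      rw [inv_eq_iff_mul_eq_one, ← pow_succ']
      exact hb
    have hpow : ∀ n : ℕ, ∀ x ∈ P, b ^ n * x * (b ^ n)⁻¹ ∈ P := by
      intro n
      induction n with
      | zero => intro x hx; simpa using hx
      | succ n ih =>
        intro x hx
        have := hn _ (ih x hx)
        have h1 : b ^ (n + 1) * x * (b ^ (n + 1))⁻¹ = b * (b ^ n * x * (b ^ n)⁻¹) * b⁻¹ := by
          rw [pow_succ']; group
        rw [h1]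
        exact this
    intro x
    constructor
    · exact hn x
    · intro hx
      have h1 := hpow 4 _ hx
      rw [← hbinv] at h1
      have h2 : b⁻¹ * (b * x * b⁻¹) * b⁻¹⁻¹ = x := by group
      rwa [h2] at h1
  have hZ : IsPGroup 5 (zpowers b) := by
    rintro ⟨x, k, rfl⟩
    refine ⟨1, Subtype.ext ?_⟩
    show (b ^ k) ^ (5 ^ 1) = 1
    rw [pow_one, ← zpow_natCast, ← zpow_mul, mul_comm, zpow_mul, zpow_natCast, hb, one_zpow]
  let _ : MulAction (zpowers b) P :=
    { smul := fun t a => ⟨t * a * (t : G)⁻¹, (mem_normalizer_iff.1 (hbn t.2) a).1 a.2⟩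
      one_smul := fun a => Subtype.ext (by show (1 : G) * a * (1 : G)⁻¹ = a; rw [one_mul, inv_one, mul_one])
      mul_smul := fun s t a => Subtype.ext (by
        show ((s * t : zpowers b) : G) * a * ((s * t : zpowers b) : G)⁻¹ = s * (t * a * (t : G)⁻¹) * (s : G)⁻¹
        rw [Subgroup.coe_mul]; group) }
  have hsm : ∀ (t : zpowers b) (a : P), ((t • a : P) : G) = t * a * (t : G)⁻¹ := fun _ _ => rfl
  have hmod := hZ.card_modEq_card_fixedPoints P
  have hfix : Nat.card (MulAction.fixedPoints (zpowers b) P) = Nat.card ↥(P ⊓ centralizer ({b} : Set G)) := by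
    refine Nat.card_congr ⟨fun a => ⟨a.1, a.1.2, ?_⟩, fun a => ⟨⟨a.1, a.2.1⟩, ?_⟩, fun a => rfl, fun a => rfl⟩
    · change (a.1 : G) ∈ centralizer ({b} : Set G)
      rw [mem_centralizer_singleton_iff]
      have h1 := congrArg Subtype.val (a.2 ⟨b, mem_zpowers b⟩)
      rw [hsm] at h1
      exact (mul_inv_eq_iff_eq_mul.1 h1).symm
    · rintro ⟨t, k, rfl⟩
      apply Subtype.ext
      rw [hsm]
      have h1 : a.1 * b = b * a.1 := mem_centralizer_singleton_iff.1 a.2.2
      have h2 := (show Commute (a : G) b from h1).zpow_right k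
      show b ^ k * (a : G) * (b ^ k)⁻¹ = a
      rw [← h2.eq, mul_inv_cancel_right]
  rw [hfix] at hmod
  obtain ⟨n, hn'⟩ := IsPGroup.iff_card.1 hP
  obtain ⟨m, hm⟩ := IsPGroup.iff_card.1 (hP.to_le (inf_le_left : P ⊓ centralizer ({b} : Set G) ≤ P))
  have hlt : Nat.card ↥(P ⊓ centralizer ({b} : Set G)) < Nat.card P := by
    refine lt_of_le_of_ne (card_le_of_le inf_le_left) fun h => ?_
    have h1 := eq_of_le_of_card_ge (inf_le_left : P ⊓ centralizer ({b} : Set G) ≤ P) h.ge
    obtain ⟨x, hx, hxb⟩ := hne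
    rw [← h1] at hx
    exact hxb (mem_centralizer_singleton_iff.1 hx.2).symm
  rw [hn', hm] at hmod hlt ⊢
  have hmn := (Nat.pow_lt_pow_iff_right (by norm_num : 1 < 2)).1 hlt
  obtain ⟨k, rfl⟩ := Nat.exists_eq_add_of_le hmn.le
  have hk : 4 ≤ k := by
    by_contra hk
    have hk' : k = 1 ∨ k = 2 ∨ k = 3 := by omega
    have hco : Nat.Coprime (2 ^ m) 5 := Nat.Coprime.pow_left m (by norm_num)
    have h1 : 2 ^ m * 2 ^ k ≡ 2 ^ m * 1 [MOD 5] := by rw [mul_one, ← pow_add]; exact hmod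
    have h2 : 2 ^ k ≡ 1 [MOD 5] := Nat.ModEq.cancel_left_of_coprime (by rw [Nat.gcd_comm]; exact hco) h1
    rcases hk' with rfl | rfl | rfl <;> revert h2 <;> decide
  calc 16 * 2 ^ m = 2 ^ m * 2 ^ 4 := by ring
    _ ≤ 2 ^ m * 2 ^ k := Nat.mul_le_mul_left _ (Nat.pow_le_pow_right (by norm_num) hk)
    _ = 2 ^ (m + k) := by rw [pow_add]

/-- Thompson: an element `b` of order 5 commuting with the involution `u`, both normalizing the 2-group `R`, which
centralizes `C_R(u)`, centralizes `R` -/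
theorem comm_of_comm [Finite G] {R : Subgroup G} (hR : IsPGroup 2 R) {u b : G} (hu : u * u = 1) (hb : b ^ 5 = 1)
    (hub : b * u = u * b) (hnu : u ∈ normalizer (R : Set G)) (hnb : b ∈ normalizer (R : Set G))
    (h : ∀ x ∈ R, x * u = u * x → b * x = x * b) : ∀ x ∈ R, b * x = x * b := by
  have h2 : Fact (Nat.Prime 2) := ⟨Nat.prime_two⟩
  have hU : IsPGroup 2 (zpowers u) := by
    rintro ⟨x, k, rfl⟩
    refine ⟨1, Subtype.ext ?_⟩
    show (u ^ k) ^ (2 ^ 1) = 1
    rw [pow_one, ← zpow_natCast, ← zpow_mul, mul_comm, zpow_mul, zpow_natCast, pow_two, hu, one_zpow]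
  have hB : (Nat.card (zpowers b)).Coprime 2 := by
    rw [Nat.card_zpowers]
    exact Nat.Coprime.coprime_dvd_left (orderOf_dvd_of_pow_eq_one hb) (by norm_num)
  have hc : zpowers u ≤ centralizer ((zpowers b : Subgroup G) : Set G) := by
    rw [zpowers_le, mem_centralizer_iff]
    rintro _ ⟨k, rfl⟩
    exact ((show Commute b u from hub).zpow_left k).eq
  have key := Lib.ThompsonPQ.thompson_p_times_q 2 (zpowers u) (zpowers b) R hU hB hR hc
    (by rw [zpowers_le]; exact hnu) (by rw [zpowers_le]; exact hnb) (by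
      rintro x ⟨hx, hxu⟩
      have h1 : x * u = u * x := (mem_centralizer_iff.1 hxu u (mem_zpowers u)).symm
      have h3 := h x hx h1
      rw [mem_centralizer_iff]
      rintro _ ⟨k, rfl⟩
      exact ((show Commute b x from h3).zpow_left k).eq)
  intro x hx
  exact (mem_centralizer_iff.1 (key (mem_zpowers b)) x hx).symm

/-- no elementary abelian 5-group of order at least 25 centralizes `z` and a second involution `u` commuting with `z`,
if `C(z)` has a large extraspecial subgroup of order `2 ^ 9` -/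
theorem not_two [Finite G] {R : Subgroup G} {z : G} (hL : Large R z) (hc : Nat.card R = 512) {u : G}
    (hu : u * u = 1) (hu1 : u ≠ 1) (huz : u ≠ z) (hcom : u * z = z * u) {B : Subgroup G}
    (hB : IsElementaryAbelian 5 B) (h25 : 5 ^ 2 ≤ Nat.card B) (hBz : ∀ b ∈ B, b * z = z * b)
    (hBu : ∀ b ∈ B, b * u = u * b) : False := by
  have h5 : Fact (Nat.Prime 5) := ⟨by norm_num⟩
  have hR : IsPGroup 2 R := IsPGroup.of_card (n := 9) (by rw [hc]; norm_num)
  set P : Subgroup G := R ⊓ centralizer ({u} : Set G) with hPdef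
  have hPp : IsPGroup 2 P := hR.to_le inf_le_left
  have hnR : ∀ g, g * z = z * g → g ∈ normalizer (R : Set G) := by
    intro g hg
    rw [mem_normalizer_iff]
    intro x
    refine ⟨hL.conj_mem g hg x, fun hx => ?_⟩
    have hg' : g⁻¹ * z = z * g⁻¹ := by
      rw [inv_mul_eq_iff_eq_mul, ← mul_assoc, hg, mul_inv_cancel_right]
    have h1 := hL.conj_mem g⁻¹ hg' _ hx
    have h2 : g⁻¹ * (g * x * g⁻¹) * g⁻¹⁻¹ = x := by group
    rwa [h2] at h1
  have hBp : ∀ b ∈ B, b ^ 5 = 1 := hB.2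
  have hnt : ∀ b ∈ B, b ≠ 1 → ∃ x ∈ P, b * x ≠ x * b := by
    intro b hb hb1
    by_contra hcon
    push Not at hcon
    have h1 := comm_of_comm hR hu (hBp b hb) (hBu b hb) (hnR u hcom) (hnR b (hBz b hb)) fun x hx hxu =>
      hcon x ⟨hx, mem_centralizer_singleton_iff.2 hxu⟩
    have h2 := hL.self b (hBz b hb) h1
    have h3 : orderOf (⟨b, h2⟩ : R) ∣ 5 := orderOf_dvd_of_pow_eq_one (Subtype.ext (hBp b hb))
    have h4 : orderOf (⟨b, h2⟩ : R) ∣ 512 := by rw [← hc]; exact orderOf_dvd_natCard _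
    have h6 : orderOf (⟨b, h2⟩ : R) ∣ 1 := by
      have := Nat.dvd_gcd h3 h4
      rwa [show Nat.gcd 5 512 = 1 by norm_num] at this
    have h7 := orderOf_eq_one_iff.1 (Nat.dvd_one.1 h6)
    exact hb1 (congrArg Subtype.val h7)
  have hBn : ∀ b ∈ B, ∀ x ∈ P, b * x * b⁻¹ ∈ P := by
    intro b hb x hx
    refine ⟨hL.conj_mem b (hBz b hb) x hx.1, mem_centralizer_singleton_iff.2 ?_⟩
    have h1 : x * u = u * x := mem_centralizer_singleton_iff.1 hx.2
    have h2 := hBu b hb
    have h3 : b⁻¹ * u = u * b⁻¹ := by rw [inv_mul_eq_iff_eq_mul, ← mul_assoc, h2, mul_inv_cancel_right]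
    calc b * x * b⁻¹ * u = b * x * (b⁻¹ * u) := by group
      _ = b * (x * u) * b⁻¹ := by rw [h3]; group
      _ = b * u * (x * b⁻¹) := by rw [h1]; group
      _ = u * (b * x * b⁻¹) := by rw [h2]; group
  have hB1 : B ≠ ⊥ := by
    rintro rfl
    rw [card_bot] at h25
    norm_num at h25
  have hBnP : B ≤ normalizer (P : Set G) := by
    intro b hb
    rw [mem_normalizer_iff]
    intro x
    refine ⟨hBn b hb x, fun hx => ?_⟩
    have h1 := hBn b⁻¹ (inv_mem hb) _ hx
    have h2 : b⁻¹ * (b * x * b⁻¹) * b⁻¹⁻¹ = x := by group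
    rwa [h2] at h1
  have hpP : ¬ 5 ∣ Nat.card P := by
    obtain ⟨n, hn⟩ := IsPGroup.iff_card.1 hPp
    rw [hn]
    intro h
    have h1 := (Nat.prime_dvd_prime_iff_eq (by norm_num : Nat.Prime 5) Nat.prime_two).1
      ((by norm_num : Nat.Prime 5).dvd_of_dvd_pow h)
    omega
  have hgen := Lib.CoprimeHyperplane.iSup_centralizer_hyperplane hB hB1 hpP hBnP
  obtain ⟨⟨B1, hB1E, hB1i⟩, b, hb, x, hx, hxb⟩ : ∃ B1 : {B1 : Subgroup G // B1 ≤ B ∧ B1.relIndex B = 5}, ∃ b ∈ B,
      ∃ x ∈ P ⊓ centralizer ((B1 : Subgroup G) : Set G), b * x ≠ x * b := by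
    by_contra hcon
    push Not at hcon
    obtain ⟨b, hb, hb1⟩ : ∃ b ∈ B, b ≠ 1 := by
      by_contra h
      push Not at h
      exact hB1 (eq_bot_iff.2 fun b hb => mem_bot.2 (h b hb))
    obtain ⟨x, hx, hxb⟩ := hnt b hb hb1
    have h1 : P ≤ centralizer ({b} : Set G) := by
      rw [← hgen]
      refine iSup_le fun B1 y hy => mem_centralizer_singleton_iff.2 ?_
      exact (hcon B1 b hb y hy).symm
    exact hxb (mem_centralizer_singleton_iff.1 (h1 hx)).symm
  change x ∈ P ⊓ centralizer (B1 : Set G) at hx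
  -- an element `b1 ≠ 1` of `B1`
  obtain ⟨b1, hb1, hb1n⟩ : ∃ b1 ∈ B1, b1 ≠ 1 := by
    by_contra h
    push Not at h
    have h1 : B1 = ⊥ := eq_bot_iff.2 fun b hb => mem_bot.2 (h b hb)
    rw [h1, relIndex_bot_left] at hB1i
    rw [hB1i] at h25
    norm_num at h25
  have hb1B := hB1E hb1
  set Q : Subgroup G := P ⊓ centralizer ({b1} : Set G) with hQdef
  have hBc : ∀ a ∈ B, ∀ b ∈ B, a * b = b * a := fun a ha b hb => by
    have := hB.1.is_comm.comm (⟨a, ha⟩ : B) ⟨b, hb⟩
    exact congrArg Subtype.val this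
  have h1 := sixteen_mul (hPp) (hBp b1 hb1B) (hBn b1 hb1B) (hnt b1 hb1B hb1n)
  have hQn : ∀ y ∈ Q, b * y * b⁻¹ ∈ Q := by
    intro y hy
    refine ⟨hBn b hb y hy.1, mem_centralizer_singleton_iff.2 ?_⟩
    have h1 : y * b1 = b1 * y := mem_centralizer_singleton_iff.1 hy.2
    have h2 := hBc b hb b1 hb1B
    have h3 : b⁻¹ * b1 = b1 * b⁻¹ := by rw [inv_mul_eq_iff_eq_mul, ← mul_assoc, h2, mul_inv_cancel_right]
    calc b * y * b⁻¹ * b1 = b * y * (b⁻¹ * b1) := by group
      _ = b * (y * b1) * b⁻¹ := by rw [h3]; group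
      _ = b * b1 * (y * b⁻¹) := by rw [h1]; group
      _ = b1 * (b * y * b⁻¹) := by rw [h2]; group
  have h2 := sixteen_mul (hPp.to_le (inf_le_left : Q ≤ P)) (hBp b hb) hQn
    ⟨x, ⟨hx.1, mem_centralizer_singleton_iff.2 (mem_centralizer_iff.1 hx.2 b1 hb1).symm⟩, hxb⟩
  have hz : z ∈ Q ⊓ centralizer ({b} : Set G) :=
    ⟨⟨⟨hL.z_mem, mem_centralizer_singleton_iff.2 hcom.symm⟩, mem_centralizer_singleton_iff.2 (hBz b1 hb1B).symm⟩,
      mem_centralizer_singleton_iff.2 (hBz b hb).symm⟩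
  have h3 : 2 ≤ Nat.card ↥(Q ⊓ centralizer ({b} : Set G)) := by
    have : Nontrivial ↥(Q ⊓ centralizer ({b} : Set G)) :=
      (nontrivial_iff_exists_ne_one _).2 ⟨z, hz, hL.z_ne⟩
    exact Finite.one_lt_card
  have h4 : 512 ≤ Nat.card P := by
    calc 512 = 16 * (16 * 2) := by norm_num
      _ ≤ 16 * (16 * Nat.card ↥(Q ⊓ centralizer ({b} : Set G))) := by omega
      _ ≤ 16 * Nat.card Q := Nat.mul_le_mul_left _ h2
      _ ≤ Nat.card P := h1
  have h6 : P = R := eq_of_le_of_card_ge inf_le_left (by rw [hc]; exact h4)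
  have h7 : ∀ y ∈ R, u * y = y * u := by
    intro y hy
    rw [← h6] at hy
    exact (mem_centralizer_singleton_iff.1 hy.2).symm
  rcases hL.cent u (hL.self u hcom h7) h7 with h8 | h8
  · exact hu1 h8
  · exact huz h8

theorem isPGroup_zpowers {p : ℕ} {x : G} (h : x ^ p = 1) : IsPGroup p (zpowers x) := by
  rintro ⟨y, k, rfl⟩
  refine ⟨1, Subtype.ext ?_⟩
  show (x ^ k) ^ (p ^ 1) = 1
  rw [pow_one, ← zpow_natCast, ← zpow_mul, mul_comm, zpow_mul, zpow_natCast, h, one_zpow]

/-- `⟨x, y⟩` is a `p`-group -/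
theorem isPGroup_of_rels {p : ℕ} {x y c : G} (hx : x ^ p = 1) (hy : y ^ p = 1) (hc : c ^ p = 1)
    (hcx : c * x = x * c) (hcy : c * y = y * c) (h : x * y = y * x * c) :
    IsPGroup p (zpowers x ⊔ (zpowers y ⊔ zpowers c) : Subgroup G) := by
  have h1 : IsPGroup p (zpowers y ⊔ zpowers c : Subgroup G) := by
    refine (isPGroup_zpowers hy).to_sup_of_normal_right' (isPGroup_zpowers hc) ?_
    rw [zpowers_le, mem_normalizer_iff]
    intro w
    have h2 : ∀ k : ℤ, y * c ^ k * y⁻¹ = c ^ k := fun k => by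
      rw [mul_inv_eq_iff_eq_mul]
      exact ((show Commute c y from hcy).zpow_left k).eq.symm
    constructor
    · rintro ⟨k, rfl⟩
      exact ⟨k, (h2 k).symm⟩
    · rintro ⟨k, hk⟩
      refine ⟨k, ?_⟩
      change c ^ k = y * w * y⁻¹ at hk
      change c ^ k = w
      rw [← h2 k] at hk
      exact mul_left_cancel (mul_right_cancel hk)
  refine (isPGroup_zpowers hx).to_sup_of_normal_right' h1 ?_
  rw [zpowers_le]
  set K : Subgroup G := zpowers y ⊔ zpowers c with hK
  have hyK : y ∈ K := (le_sup_left : zpowers y ≤ K) (mem_zpowers y)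
  have hcK : c ∈ K := (le_sup_right : zpowers c ≤ K) (mem_zpowers c)
  have hxc : x * c * x⁻¹ = c := by rw [← hcx, mul_inv_cancel_right]
  have hxy : x * y * x⁻¹ = y * c := by rw [h, mul_assoc y x c, ← hcx]; group
  have hmap : K.map (MulAut.conj x).toMonoidHom = K := by
    rw [hK, Subgroup.map_sup, MonoidHom.map_zpowers, MonoidHom.map_zpowers]
    have e1 : (MulAut.conj x).toMonoidHom y = y * c := hxy
    have e2 : (MulAut.conj x).toMonoidHom c = c := hxc
    rw [e1, e2]
    refine le_antisymm (sup_le (zpowers_le.2 (mul_mem hyK hcK)) (zpowers_le.2 hcK)) (sup_le ?_ le_sup_right)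
    rw [zpowers_le]
    have h3 : y * c ∈ zpowers (y * c) ⊔ zpowers c :=
      (le_sup_left : zpowers (y * c) ≤ zpowers (y * c) ⊔ zpowers c) (mem_zpowers _)
    have h4 : c ∈ zpowers (y * c) ⊔ zpowers c :=
      (le_sup_right : zpowers c ≤ zpowers (y * c) ⊔ zpowers c) (mem_zpowers _)
    have h5 := mul_mem h3 (inv_mem h4)
    rwa [mul_inv_cancel_right] at h5
  rw [mem_normalizer_iff]
  intro w
  constructor
  · intro hw

    have : (MulAut.conj x).toMonoidHom w ∈ K.map (MulAut.conj x).toMonoidHom := mem_map_of_mem _ hw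
    rw [hmap] at this
    exact this
  · intro hw
    rw [← hmap] at hw
    obtain ⟨v, hv, hvw⟩ := hw
    change x * v * x⁻¹ = x * w * x⁻¹ at hvw
    rw [← mul_left_cancel (mul_right_cancel hvw)]
    exact hv

end Cfsg.Agent.BiChar.HNFive

end

-- merged: Cfsg.Agent.BiChar.HNFive
section

/-!
# S1798, the row of the Harada-Norton group (helper25)

* `not_atLeast_H0` : the Sylow 5-subgroups of `H0 = 2.HS.2` (order `5 ^ 3`) are not abelian;
* `twoLocal` : every 2-local subgroup of HN has 5-rank at most 2;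
* `three_hn` : the row `Three (IsoHN)`.
-/

set_option autoImplicit false

namespace Cfsg.Agent.BiChar.HNFive

open Cfsg Subgroup
open Cfsg.Agent.HN.Pres Cfsg.Agent.HN.H0Basic Cfsg.Agent.HN.Syl Cfsg.Agent.HN.Iota Cfsg.Agent.HN.P1408
open Cfsg.Agent.HN.XWords Cfsg.Agent.KFacts.HN Cfsg.Agent.SigZeroHN

/-- an element of order 5 -/
def wx : List ℕ := [0, 4, 3, 4, 1, 3, 4, 0, 3, 2, 4, 2, 1, 4, 3, 3, 1, 2, 4, 0, 3, 4, 2, 4]
/-- an element of order 5 -/
def wy : List ℕ := [1, 4, 3, 4, 4, 3, 0, 3, 3, 4, 0, 0]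
/-- their commutator -/
def wc : List ℕ := iw wx ++ (iw wy ++ (wx ++ wy))

theorem pow_five (a : List ℕ) : hw a ^ 5 = hw (a ++ (a ++ (a ++ (a ++ a)))) := by
  simp only [hw_append, pow_succ, pow_zero, one_mul, mul_assoc]

theorem hwx5 : hw wx ^ 5 = 1 := by
  rw [pow_five, ← hw_nil]
  exact hw_eq (by decide +kernel)

theorem hwy5 : hw wy ^ 5 = 1 := by
  rw [pow_five, ← hw_nil]
  exact hw_eq (by decide +kernel)

theorem hwc5 : hw wc ^ 5 = 1 := by
  rw [pow_five, ← hw_nil]
  exact hw_eq (by decide +kernel)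

theorem hcx : hw wc * hw wx = hw wx * hw wc := by
  rw [← hw_append, ← hw_append]
  exact hw_eq (by decide +kernel)

theorem hcy : hw wc * hw wy = hw wy * hw wc := by
  rw [← hw_append, ← hw_append]
  exact hw_eq (by decide +kernel)

theorem hxy : hw wx * hw wy = hw wy * hw wx * hw wc := by
  rw [wc, hw_append, hw_append, hw_append, hw_iw, hw_iw]
  group

theorem hne : hw wx * hw wy ≠ hw wy * hw wx := by
  rw [← hw_append, ← hw_append]
  exact hw_ne (p := 0) (by decide +kernel) (by decide +kernel) (by norm_num) (by decide +kernel)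

/-- the Sylow 5-subgroups of `H0` are not abelian -/
theorem not_atLeast_H0 : ¬ PRankAtLeast 5 3 H0 := by
  refine Small.not_atLeast_of_nonabelian (by norm_num) (by rw [Cfsg.Agent.HN.H0Basic.card_H0]; norm_num)
    (zpowers (hw wx) ⊔ (zpowers (hw wy) ⊔ zpowers (hw wc))) (isPGroup_of_rels hwx5 hwy5 hwc5 hcx hcy hxy)
    (x := hw wx) (y := hw wy) ((le_sup_left : zpowers (hw wx) ≤ _) (mem_zpowers _))
    ((le_sup_right : (zpowers (hw wy) ⊔ zpowers (hw wc)) ≤ _)
      ((le_sup_left : zpowers (hw wy) ≤ _) (mem_zpowers _))) hne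

/-- an elementary abelian 5-subgroup of order at least 125 does not centralize an involution -/
theorem not_one {t : Cfsg.Spor.HN} (ht : orderOf t = 2) {E : Subgroup Cfsg.Spor.HN} (hE : IsElementaryAbelian 5 E)
    (hc : 5 ^ 3 ≤ Nat.card E) (hEt : ∀ e ∈ E, e * t = t * e) : False := by
  have hdvd : 5 ^ 3 ∣ Nat.card E := Small.pow_dvd_of_le (by norm_num) hE.2 hc
  rcases card_centralizer_cases ht with ⟨h1, -⟩ | ⟨-, h2⟩
  · obtain ⟨c, hcc⟩ := isConj_iff.1 h1
    apply not_atLeast_H0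
    have key : ∀ e ∈ E, ∃ h : H0, Cfsg.Agent.HN.NormalH.ψ h = c * e * c⁻¹ := by
      intro e he
      have h5 : (c * e * c⁻¹) * Cfsg.Agent.HN.NormalH.ψ τ = Cfsg.Agent.HN.NormalH.ψ τ * (c * e * c⁻¹) := by
        rw [← hcc]
        calc c * e * c⁻¹ * (c * t * c⁻¹) = c * (e * t) * c⁻¹ := by group
          _ = c * (t * e) * c⁻¹ := by rw [hEt e he]
          _ = c * t * c⁻¹ * (c * e * c⁻¹) := by group
      exact emb.cent _ h5
    set A : Subgroup H0 := (E.map (MulAut.conj c).toMonoidHom).comap Cfsg.Agent.HN.NormalH.ψ with hA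
    have hmem : ∀ h : H0, h ∈ A ↔ ∃ e ∈ E, Cfsg.Agent.HN.NormalH.ψ h = c * e * c⁻¹ := by
      intro h
      rw [hA, mem_comap, mem_map]
      constructor
      · rintro ⟨e, he, h'⟩
        exact ⟨e, he, h'.symm⟩
      · rintro ⟨e, he, h'⟩
        exact ⟨e, he, h'.symm⟩
    refine ⟨A, ⟨⟨?_⟩⟩, ?_, ?_⟩
    · rintro ⟨u, hu⟩ ⟨v, hv⟩
      obtain ⟨e, he, hue⟩ := (hmem u).1 hu
      obtain ⟨f, hf, hvf⟩ := (hmem v).1 hv
      apply Subtype.ext
      apply emb.inj
      have h3 : e * f = f * e := congrArg Subtype.val (hE.1.is_comm.comm (⟨e, he⟩ : E) ⟨f, hf⟩)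
      change Cfsg.Agent.HN.NormalH.ψ (u * v) = Cfsg.Agent.HN.NormalH.ψ (v * u)
      rw [map_mul, map_mul, hue, hvf]
      calc c * e * c⁻¹ * (c * f * c⁻¹) = c * (e * f) * c⁻¹ := by group
        _ = c * (f * e) * c⁻¹ := by rw [h3]
        _ = c * f * c⁻¹ * (c * e * c⁻¹) := by group
    · intro u hu
      obtain ⟨e, he, hue⟩ := (hmem u).1 hu
      apply emb.inj
      rw [map_pow, map_one, hue, conj_pow, hE.2 e he, mul_one, mul_inv_cancel]
    · refine hc.trans ?_
      have : Finite H0 := Cfsg.Agent.HN.H0Basic.finite_H0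
      choose f hf using key
      refine Nat.card_le_card_of_injective (fun e : E => (⟨f e e.2, (hmem _).2 ⟨e, e.2, hf e e.2⟩⟩ : A)) ?_
      intro e e' h
      have h1 := congrArg (fun x : A => Cfsg.Agent.HN.NormalH.ψ (x : H0)) h
      simp only [hf] at h1
      exact Subtype.ext (mul_left_cancel (mul_right_cancel h1))
  · have h3 := hdvd.trans (dvd_of_le (B := centralizer ({t} : Set Cfsg.Spor.HN)) fun e he =>
      mem_centralizer_singleton_iff.2 (hEt e he))
    rw [h2] at h3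
    omega

theorem not_dvd_of_le {k m N : ℕ} (h1 : N ≤ m * k) (h0 : 0 < N) (h2 : m ∣ N) (hk : k < 25) (hm : Nat.Coprime 25 m) :
    ¬ 25 ∣ N := by
  intro h
  obtain ⟨j, rfl⟩ := h2
  have h3 : 25 ∣ j := (Nat.Coprime.dvd_of_dvd_mul_left hm h)
  have hm0 : 0 < m := Nat.pos_of_ne_zero fun h => by rw [h, zero_mul] at h0; exact lt_irrefl 0 h0
  have h4 : j ≤ k := Nat.le_of_mul_le_mul_left h1 hm0
  have h5 : 0 < j := Nat.pos_of_ne_zero fun h => by rw [h, mul_zero] at h0; exact lt_irrefl 0 h0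
  have := Nat.le_of_dvd h5 h3
  omega

/-- 25 does not divide `|C(gz)|` -/
theorem card_z : ¬ 25 ∣ Nat.card (centralizer ({gz} : Set H0)) := by
  have : Finite H0 := Cfsg.Agent.HN.H0Basic.finite_H0
  have h2 : iota.range ≤ centralizer ({gz} : Set H0) := by
    rintro _ ⟨s, rfl⟩
    rw [mem_centralizer_singleton_iff]
    exact (z_iota s).symm
  have h3 : Nat.card iota.range = 20160 := by
    rw [← Nat.card_congr (MonoidHom.ofInjective iota_inj).toEquiv, nat_card_alternatingGroup, Nat.card_eq_fintype_card,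
      Fintype.card_fin]
    rfl
  have h4 := dvd_of_le h2
  rw [h3] at h4
  intro h
  have h5 := Cfsg.Agent.HN.CentCards.card_centralizer_z
  obtain ⟨k, hk⟩ := h4
  have h6 : 0 < Nat.card (centralizer ({gz} : Set H0)) := Nat.card_pos
  rw [hk] at h h5 h6
  have h7 : k ≤ 4 := by omega
  interval_cases k <;> omega

/-- 25 does not divide `|C(d)|` -/
theorem card_d : ¬ 25 ∣ Nat.card (centralizer ({d} : Set H0)) := by
  have : Finite H0 := Cfsg.Agent.HN.H0Basic.finite_H0
  exact not_dvd_of_le (k := 15) (m := 2 ^ 8)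
    (Cfsg.Agent.HN.CentCards.card_centralizer_d.trans (by norm_num)) Nat.card_pos
    Cfsg.Agent.HN.FactF3.two_pow_dvd_d (by norm_num) (by norm_num)

/-- A subgroup of order divisible by 25 does not centralise two commuting involutions, the first of them conjugate
to `ψ τ`. -/
theorem not_dvd_pair {t v : Cfsg.Spor.HN} (ht : IsConj t (Cfsg.Agent.HN.NormalH.ψ τ)) (hv : orderOf v = 2)
    (hne : v ≠ t) (hc : v * t = t * v) {B : Subgroup Cfsg.Spor.HN} (h1 : ∀ b ∈ B, b * t = t * b)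
    (h2 : ∀ b ∈ B, b * v = v * b) : ¬ 25 ∣ Nat.card B := by
  intro hB
  obtain ⟨c, hcc⟩ := isConj_iff.1 ht
  -- conjugate to `t = ψ τ`
  have hv' : (c * v * c⁻¹) * Cfsg.Agent.HN.NormalH.ψ τ = Cfsg.Agent.HN.NormalH.ψ τ * (c * v * c⁻¹) := by
    rw [← hcc]
    calc c * v * c⁻¹ * (c * t * c⁻¹) = c * (v * t) * c⁻¹ := by group
      _ = c * (t * v) * c⁻¹ := by rw [hc]
      _ = c * t * c⁻¹ * (c * v * c⁻¹) := by group
  obtain ⟨h, hh⟩ := emb.cent _ hv'
  have hvh : IsConj v (Cfsg.Agent.HN.NormalH.ψ h) := isConj_iff.2 ⟨c, hh.symm⟩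
  have hh2 : h ^ 2 = 1 := by
    apply emb.inj
    rw [map_pow, map_one, hh]
    have h3 : v ^ 2 = 1 := by rw [← hv, pow_orderOf_eq_one]
    calc (c * v * c⁻¹) ^ 2 = c * v ^ 2 * c⁻¹ := by rw [pow_two, pow_two]; group
      _ = 1 := by rw [h3]; group
  -- the order of `B` divides the order of the centraliser of `h`
  have hdvd : Nat.card B ∣ Nat.card (centralizer ({h} : Set H0)) := by
    have e : (B.map (MulAut.conj c).toMonoidHom) ≤ (centralizer ({h} : Set H0)).map Cfsg.Agent.HN.NormalH.ψ := by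
      rintro _ ⟨b, hb, rfl⟩
      have h3 : b * t = t * b := h1 b hb
      have h4 : b * v = v * b := h2 b hb
      have h5 : (c * b * c⁻¹) * Cfsg.Agent.HN.NormalH.ψ τ = Cfsg.Agent.HN.NormalH.ψ τ * (c * b * c⁻¹) := by
        rw [← hcc]
        calc c * b * c⁻¹ * (c * t * c⁻¹) = c * (b * t) * c⁻¹ := by group
          _ = c * (t * b) * c⁻¹ := by rw [h3]
          _ = c * t * c⁻¹ * (c * b * c⁻¹) := by group
      obtain ⟨k, hk⟩ := emb.cent _ h5
      refine ⟨k, ?_, hk⟩
      change k ∈ centralizer ({h} : Set H0)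
      rw [mem_centralizer_singleton_iff]
      apply emb.inj
      rw [map_mul, map_mul, hk, hh]
      calc c * b * c⁻¹ * (c * v * c⁻¹) = c * (b * v) * c⁻¹ := by group
        _ = c * (v * b) * c⁻¹ := by rw [h4]
        _ = c * v * c⁻¹ * (c * b * c⁻¹) := by group
    have h6 := dvd_of_le e
    rw [← Nat.card_congr (B.equivMapOfInjective (MulAut.conj c).toMonoidHom (MulAut.conj c).injective).toEquiv,
      ← Nat.card_congr ((centralizer ({h} : Set H0)).equivMapOfInjective _ emb.inj).toEquiv] at h6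
    exact h6
  have h125 := hB.trans hdvd
  rcases involution_cases hh2 with h3 | h3 | h3 | h3 | h3 | h3
  · -- `h = 1`
    rw [h3, map_one, isConj_one_left] at hvh
    rw [hvh, orderOf_one] at hv
    omega
  · -- `h = τ`
    apply hne
    rw [h3, ← hcc] at hh
    have h4 : c * t * c⁻¹ = c * v * c⁻¹ := hh
    exact (mul_left_cancel (mul_right_cancel h4)).symm
  · rw [← card_centralizer_conj h3, Cfsg.Agent.HN.CentUp.card_centralizer_a] at h125
    omega
  · rw [← card_centralizer_conj h3, Cfsg.Agent.HN.CentUp.card_centralizer_aτ] at h125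
    omega
  · rw [← card_centralizer_conj h3] at h125
    exact card_z h125
  · rw [← card_centralizer_conj h3] at h125
    exact card_d h125

/-- the case of two involutions of the class of `W0` -/
theorem not_pair_W0 {t u : Cfsg.Spor.HN} (ht : IsConj t W0) (hu : orderOf u = 2) (hne : t ≠ u) (hc : t * u = u * t)
    {B : Subgroup Cfsg.Spor.HN} (hB : IsElementaryAbelian 5 B) (h25 : 5 ^ 2 ≤ Nat.card B)
    (h1 : ∀ b ∈ B, b * t = t * b) (h2 : ∀ b ∈ B, b * u = u * b) : False := by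
  obtain ⟨c, hcc⟩ := isConj_iff.1 ht
  have hinj : Function.Injective (MulAut.conj c).toMonoidHom := (MulAut.conj c).injective
  have hcomm : ∀ x y : Cfsg.Spor.HN, x * y = y * x → c * x * c⁻¹ * (c * y * c⁻¹) = c * y * c⁻¹ * (c * x * c⁻¹) := by
    intro x y h
    calc c * x * c⁻¹ * (c * y * c⁻¹) = c * (x * y) * c⁻¹ := by group
      _ = c * (y * x) * c⁻¹ := by rw [h]
      _ = c * y * c⁻¹ * (c * x * c⁻¹) := by group
  have huu : u * u = 1 := by rw [← pow_two, ← hu, pow_orderOf_eq_one]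
  refine not_two (R := RS) (z := W0) (u := c * u * c⁻¹) (B := B.map (MulAut.conj c).toMonoidHom) large card_RS
    ?_ ?_ ?_ ?_ ⟨⟨⟨?_⟩⟩, ?_⟩ ?_ ?_ ?_
  · calc c * u * c⁻¹ * (c * u * c⁻¹) = c * (u * u) * c⁻¹ := by group
      _ = 1 := by rw [huu]; group
  · intro h
    rw [mul_inv_eq_one] at h
    have h3 : u = 1 := mul_left_cancel (h.trans (mul_one c).symm)
    rw [h3, orderOf_one] at hu
    omega
  · intro h
    rw [← hcc] at h
    exact hne (mul_left_cancel (mul_right_cancel h)).symm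
  · rw [← hcc]
    exact (hcomm t u hc).symm
  · rintro ⟨_, a, ha, rfl⟩ ⟨_, b, hb, rfl⟩
    have h3 : a * b = b * a := congrArg Subtype.val (hB.1.is_comm.comm (⟨a, ha⟩ : B) ⟨b, hb⟩)
    exact Subtype.ext (hcomm a b h3)
  · rintro _ ⟨a, ha, rfl⟩
    rw [← map_pow, hB.2 a ha, map_one]
  · rw [card_map_of_injective hinj]
    exact h25
  · rintro _ ⟨a, ha, rfl⟩
    rw [← hcc]
    exact hcomm a t (h1 a ha)
  · rintro _ ⟨a, ha, rfl⟩
    exact hcomm a u (h2 a ha)

/-- **Every 2-local subgroup of HN has 5-rank at most 2.** -/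
theorem twoLocal : TwoLocalPRankLE 5 2 Cfsg.Spor.HN := by
  refine Small.twoLocal_le (by norm_num) (by norm_num) (fun t ht E hE hc hEt => not_one ht hE hc hEt) ?_
  intro t u ht hu hne hc B hB h25 h1 h2
  have hd : 25 ∣ Nat.card B := Small.pow_dvd_of_le (k := 2) (by norm_num) hB.2 h25
  rcases card_centralizer_cases ht with ⟨h3, -⟩ | ⟨h3, -⟩
  · exact not_dvd_pair h3 hu hne.symm hc.symm h1 h2 hd
  · rcases card_centralizer_cases hu with ⟨h4, -⟩ | ⟨-, -⟩
    · exact not_dvd_pair h4 ht hne hc h2 h1 hd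
    · exact not_pair_W0 h3 hu hne hc hB h25 h1 h2

/-- transport along an isomorphism -/
theorem twoLocal_congr {G H : Type*} [Group G] [Group H] {p k : ℕ} (e : G ≃* H) (h : TwoLocalPRankLE p k H) :
    TwoLocalPRankLE p k G := by
  apply SigZeroHN.twoLocal_pRankLE
  intro Q E hQ hQ1 hE hEQ
  have h1 : IsTwoLocal (normalizer ((Q.map e.toMonoidHom : Subgroup H) : Set H)) := by
    refine ⟨Q.map e.toMonoidHom, hQ.map _, ?_, rfl⟩
    intro hb
    apply hQ1
    rw [Subgroup.map_eq_bot_iff_of_injective _ e.injective] at hb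
    exact hb
  have h2 : E.map e.toMonoidHom ≤ normalizer ((Q.map e.toMonoidHom : Subgroup H) : Set H) := by
    rintro _ ⟨x, hx, rfl⟩
    rw [mem_normalizer_iff]
    intro y
    obtain ⟨y, rfl⟩ := e.surjective y
    have h3 : e.toMonoidHom x * e y * (e.toMonoidHom x)⁻¹ = e.toMonoidHom (x * y * x⁻¹) := by
      change e x * e y * (e x)⁻¹ = e (x * y * x⁻¹)
      rw [map_mul, map_mul, map_inv]
    rw [h3]
    change e.toMonoidHom y ∈ Q.map e.toMonoidHom ↔ _
    rw [Subgroup.mem_map_iff_mem e.injective, Subgroup.mem_map_iff_mem e.injective]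
    exact mem_normalizer_iff.1 (hEQ hx) y
  have h4 := h _ h1 ((E.map e.toMonoidHom).subgroupOf _) ?_ ?_
  · rw [Nat.card_congr (subgroupOfEquivOfLe h2).toEquiv] at h4
    rwa [Nat.card_congr (E.equivMapOfInjective e.toMonoidHom e.injective).toEquiv]
  · refine ⟨⟨?_⟩⟩
    rintro ⟨⟨u, h5⟩, hu⟩ ⟨⟨v, h6⟩, hv⟩
    apply Subtype.ext
    apply Subtype.ext
    obtain ⟨x, hx, hxu⟩ := Subgroup.mem_map.1 (Subgroup.mem_subgroupOf.1 hu)
    obtain ⟨y, hy, hyv⟩ := Subgroup.mem_map.1 (Subgroup.mem_subgroupOf.1 hv)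
    have h7 : x * y = y * x := congrArg Subtype.val (hE.1.is_comm.comm ⟨x, hx⟩ ⟨y, hy⟩)
    change u * v = v * u
    change e.toMonoidHom x = u at hxu
    change e.toMonoidHom y = v at hyv
    rw [← hxu, ← hyv, ← map_mul, ← map_mul, h7]
  · rintro ⟨u, h5⟩ hu
    apply Subtype.ext
    obtain ⟨x, hx, hxu⟩ := Subgroup.mem_map.1 (Subgroup.mem_subgroupOf.1 hu)
    change u ^ p = 1
    change e.toMonoidHom x = u at hxu
    rw [← hxu, ← map_pow, hE.2 x hx, map_one]

universe u

/-- **The row for HN**: `TwoLocalPRankLE 5 2` -/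
theorem twoLocal_hn {G : Type*} [Group G] (h : Spor.IsoHN G) : TwoLocalPRankLE 5 2 G := by
  obtain ⟨e⟩ := h
  exact twoLocal_congr e twoLocal

/-- **The row `Three` for HN.** -/
theorem three_hn : Three.{u} (fun X _ => Spor.IsoHN X) := by
  intro G _ _ hG p hp hp2 hr hnot
  by_contra hp3
  obtain ⟨e⟩ := hG
  have hcard : Nat.card G = 273030912000000 := by rw [Nat.card_congr e.toEquiv, Classes.card_HN]
  by_cases hp5 : p = 5
  · subst hp5
    exact hnot (twoLocal_hn ⟨e⟩)
  · refine Small.not_atLeast_of_not_dvd hp ?_ hr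
    rw [hcard]
    intro h
    have h1 : p ∣ 273030912000000 := (dvd_pow_self p (by norm_num)).trans h
    rcases prime_dvd hp h1 with rfl | rfl | rfl | rfl | rfl | rfl
    · exact hp2 rfl
    · exact hp3 rfl
    · exact hp5 rfl
    · norm_num at h
    · norm_num at h
    · norm_num at h

end Cfsg.Agent.BiChar.HNFive

end

private theorem dce_71ff6ae47856 : _root_.True := by
  try have : _root_.True := by simp only [_root_.Cfsg.Agent.HN.Syl.cat.eq_1]
  try have : _root_.True := by simp only [_root_.Cfsg.Agent.BiChar.HNFive.wc.eq_1]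
  exact _root_.True.intro
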