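import Cfsg.Agent.BiChar.SmallTools_m3
import Cfsg.Agent.BiChar.SmallJ3
import Cfsg.Agent.LargeExtra.W2.Iface
import Cfsg.Agent.OddHalf.D6.QThree.U43Tw
import Cfsg.Agent.Sigma.Pair
import Cfsg.Agent.OddHalf.D6.QThree.G23Out
import Cfsg.Agent.ChevalleyStructure.FieldIso
import Cfsg.Agent.ResEven.LFour.Row
import Cfsg.Agent.BiChar.SmallCard
import Cfsg.Agent.FastGrp
import Cfsg.Agent.Prune
set_option linter.all false
prune_inst 0x7ffebdffeff8bfffffff7e7ffedddffdfffdfffffcdffdcbffe8e3ff8fdf4b0ecde563ad8febd8ff1ed6c29c90e87bc3fbfffeffea6ffc7ffffdfff45ffbffdfffffbd0871de8cbe0ffc6ffffbf07f8e7f3fffffffffffffffffffffffffffbeffffffffffff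
open scoped Cfsg.Agent.FastGrp

-- merged: Cfsg.Agent.BiChar.SmallAlt
section

/-!
# S1798: alternating groups of small degree (helper23)

* `kill_alt`  : (K) for `A_n`, `n ≤ 11`;
* `three_a12` : (T) for `A₁₂`.
-/

set_option autoImplicit false

namespace Cfsg.Agent.BiChar.Small

open Cfsg Cfsg.Agent.SevenCases

universe u

theorem card_alt_dvd (n : ℕ) : Nat.card (alternatingGroup (Fin n)) ∣ n.factorial := by
  have h1 := Subgroup.card_subgroup_dvd_card (alternatingGroup (Fin n))
  rw [Nat.card_eq_fintype_card (α := Equiv.Perm (Fin n)), Fintype.card_perm, Fintype.card_fin] at h1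
  exact h1

theorem factorial_dvd {m n : ℕ} (h : m ≤ n) : Nat.card (alternatingGroup (Fin m)) ∣ n.factorial :=
  (card_alt_dvd m).trans (Nat.factorial_dvd_factorial h)

/-- `p ^ 4 ∤ 12!` for all primes `p ≠ 2, 3` -/
theorem nd_twelve : ∀ p : ℕ, p.Prime → p ≠ 2 → p ≠ 3 → ¬ p ^ 4 ∣ Nat.factorial 12 := by
  have h : Nat.factorial 12 = 479001600 := by decide
  rw [h]
  exact not_four_dvd_three 10 3 [5, 7, 11] (by norm_num) (by simp only [List.forall_mem_cons]; norm_num)

/-- a 9-cycle in `A_n`, `n ≥ 9` -/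
theorem exists_nine {n : ℕ} (hn : 9 ≤ n) : ∃ x : alternatingGroup (Fin n), orderOf x = 9 := by
  let f : Equiv.Perm (Fin 9) →* Equiv.Perm (Fin n) := Equiv.Perm.viaEmbeddingHom (Fin.castLEEmb hn)
  have hf : Function.Injective f := Equiv.Perm.viaEmbeddingHom_injective _
  have h9 : orderOf (finRotate 9) = 9 := by
    rw [isCycle_finRotate.orderOf, support_finRotate, Finset.card_univ, Fintype.card_fin]
  obtain ⟨c, hc⟩ : ∃ c, c = f (finRotate 9) := ⟨_, rfl⟩
  have h1 : orderOf c = 9 := by rw [hc, orderOf_injective f hf, h9]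
  have h2 : Equiv.Perm.sign c = 1 := by
    rcases Int.units_eq_one_or (Equiv.Perm.sign c) with h | h
    · exact h
    · exfalso
      have h3 : Equiv.Perm.sign (c ^ 9) = 1 := by
        have : c ^ 9 = 1 := by rw [← h1]; exact pow_orderOf_eq_one _
        rw [this, map_one]
      rw [map_pow, h] at h3
      exact absurd h3 (by decide)
  refine ⟨⟨c, Equiv.Perm.mem_alternatingGroup.2 h2⟩, ?_⟩
  rw [← h1, Subgroup.orderOf_mk]

theorem not_atLeast_alt {n p : ℕ} (hn : n ≤ 11) (hp : p.Prime) (hp2 : p ≠ 2) :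
    ¬ PRankAtLeast p 4 (alternatingGroup (Fin n)) := by
  by_cases hp3 : p = 3
  · subst hp3
    by_cases h9 : 9 ≤ n
    · obtain ⟨x, hx⟩ := exists_nine h9
      refine not_atLeast_of_orderOf Nat.prime_three ?_ (by rw [hx]; norm_num)
      intro h
      have h1 := h.trans (factorial_dvd hn)
      have h2 : Nat.factorial 11 = 39916800 := by decide
      rw [h2] at h1
      revert h1
      norm_num
    · refine not_atLeast_of_not_dvd Nat.prime_three ?_
      intro h
      have h1 := h.trans (factorial_dvd (n := 8) (by omega))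
      have h2 : Nat.factorial 8 = 40320 := by decide
      rw [h2] at h1
      revert h1
      norm_num
  · refine not_atLeast_of_not_dvd hp ?_
    intro h
    exact nd_twelve p hp hp2 hp3 (h.trans (factorial_dvd (by omega)))

theorem not_atLeast_congr {G H : Type*} [Group G] [Group H] (e : G ≃* H) {p k : ℕ} (h : ¬ PRankAtLeast p k H) :
    ¬ PRankAtLeast p k G := by
  rintro ⟨A, hA, hAp, hk⟩
  refine h ⟨A.map e.toMonoidHom, ⟨⟨?_⟩⟩, ?_, ?_⟩
  · rintro ⟨_, a, ha, rfl⟩ ⟨_, b, hb, rfl⟩
    have := hA.is_comm.comm (⟨a, ha⟩ : A) ⟨b, hb⟩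
    exact Subtype.ext ((map_mul e a b).symm.trans ((congrArg (fun x : A => e (x : G)) this).trans (map_mul e b a)))
  · rintro _ ⟨a, ha, rfl⟩
    rw [← map_pow, hAp a ha, map_one]
  · rw [Subgroup.card_map_of_injective e.injective]
    exact hk

theorem kill_alt : Kill.{u} (fun X _ => Alt (fun n => 5 ≤ n ∧ n ≤ 11) X) := by
  rintro G _ _ ⟨n, ⟨-, hn⟩, ⟨e⟩⟩ p hp hp2 h4
  exact absurd h4 (not_atLeast_congr e (not_atLeast_alt hn hp hp2))

end Cfsg.Agent.BiChar.Small

end

-- merged: Cfsg.Agent.BiChar.SmallExtra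
section

/-!
# S1798: `C(z) = 2^{1+4}_+.(3 × 3).2^a` (helper23)

`C(z)` has the extraspecial group `Q = Q₈ ∘ Q₈` with the two commuting elements `x₁`, `x₂` of order three acting on the
factors, `27 ∤ |C(z)|`:

* `no_invol` : no involution of `C(z)` other than `z` commutes with `x₁` and `x₂`;
* `no_pair`  : no involution of `C(z)` other than `z` commutes with an elementary abelian subgroup of order 9 of `C(z)`.
-/

set_option autoImplicit false

namespace Cfsg.Agent.BiChar.Small

open Cfsg Subgroup Cfsg.Agent.Co2Type.Quad Cfsg.Agent.LargeExtra.W2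

variable {G : Type*} [Group G]

/-- the action of an involution commuting with an element of order three on a quaternion group -/
theorem quat_fix {z i j u x e : G} (zz : z * z = 1) (z1 : z ≠ 1) (zi : z * i = i * z) (zj : z * j = j * z)
    (ii : i * i = z) (jj : j * j = z) (ji : j * i = i * j * z) (xz : x * z * x⁻¹ = z) (xi : x * i * x⁻¹ = j)
    (xj : x * j * x⁻¹ = i * j) (uz : u * z = z * u) (ux : u * x = x * u) (uu : u * u = 1)
    (he : e = 1 ∨ e = z) (hq : u * i * u⁻¹ = e ∨ u * i * u⁻¹ = e * i ∨ u * i * u⁻¹ = e * j ∨ u * i * u⁻¹ = e * (i * j)) :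
    u * i = i * u ∧ u * j = j * u := by
  have ez : e * z = z * e := by rcases he with rfl | rfl <;> simp
  have ee : e * e = 1 := by rcases he with rfl | rfl <;> simp [zz]
  have ei : e * i = i * e := by rcases he with rfl | rfl; · simp
                                · exact zi
  have ej : e * j = j * e := by rcases he with rfl | rfl; · simp
                                · exact zj
  have ue : u * e * u⁻¹ = e := by
    rcases he with rfl | rfl
    · simp
    · rw [uz, mul_inv_cancel_right]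
  have xe : x * e * x⁻¹ = e := by
    rcases he with rfl | rfl
    · simp
    · exact xz
  -- `u j u⁻¹ = x (u i u⁻¹) x⁻¹`
  have hj : u * j * u⁻¹ = x * (u * i * u⁻¹) * x⁻¹ := by
    have h1 : x⁻¹ * u⁻¹ = u⁻¹ * x⁻¹ := by rw [← mul_inv_rev, ← mul_inv_rev, ux]
    calc u * j * u⁻¹ = u * (x * i * x⁻¹) * u⁻¹ := by rw [xi]
      _ = (u * x) * i * (x⁻¹ * u⁻¹) := by group
      _ = (x * u) * i * (u⁻¹ * x⁻¹) := by rw [ux, h1]
      _ = x * (u * i * u⁻¹) * x⁻¹ := by group
  have hij : u * (i * j) * u⁻¹ = x * (u * j * u⁻¹) * x⁻¹ := by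
    have h1 : x⁻¹ * u⁻¹ = u⁻¹ * x⁻¹ := by rw [← mul_inv_rev, ← mul_inv_rev, ux]
    calc u * (i * j) * u⁻¹ = u * (x * j * x⁻¹) * u⁻¹ := by rw [xj]
      _ = (u * x) * j * (x⁻¹ * u⁻¹) := by group
      _ = (x * u) * j * (u⁻¹ * x⁻¹) := by rw [ux, h1]
      _ = x * (u * j * u⁻¹) * x⁻¹ := by group
  have hmul : u * (i * j) * u⁻¹ = (u * i * u⁻¹) * (u * j * u⁻¹) := by group
  have hui : u⁻¹ = u := inv_eq_of_mul_eq_one_left uu
  have h2 : ∀ y : G, u * (u * y * u⁻¹) * u⁻¹ = y := by
    intro y
    rw [hui]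
    calc u * (u * y * u) * u = (u * u) * y * (u * u) := by group
      _ = y := by rw [uu, one_mul, mul_one]
  have i1 : i ≠ 1 := by
    rintro rfl
    exact z1 (by rw [← ii, mul_one])
  have iz : i ≠ z := by
    rintro rfl
    rw [zz] at ii
    exact z1 ii.symm
  have j1 : j ≠ 1 := by
    rintro rfl
    exact z1 (by rw [← jj, mul_one])
  rcases hq with hq | hq | hq | hq
  · -- `u i u⁻¹ ∈ {1, z}`
    exfalso
    have h3 : i = u * e * u⁻¹ := by rw [← hq]; exact (h2 i).symm
    rw [ue] at h3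
    rcases he with he | he
    · exact i1 (h3.trans he)
    · exact iz (h3.trans he)
  · -- `u i u⁻¹ = e i`
    have hj' : u * j * u⁻¹ = e * j := by
      rw [hj, hq]
      calc x * (e * i) * x⁻¹ = (x * e * x⁻¹) * (x * i * x⁻¹) := by group
        _ = e * j := by rw [xe, xi]
    have hij' : u * (i * j) * u⁻¹ = e * (i * j) := by
      rw [hij, hj']
      calc x * (e * j) * x⁻¹ = (x * e * x⁻¹) * (x * j * x⁻¹) := by group
        _ = e * (i * j) := by rw [xe, xj]
    have h3 : e * (i * j) = i * j := by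
      rw [← hij', hmul, hq, hj']
      calc e * i * (e * j) = (e * e) * (i * j) := by rw [mul_assoc e i, ← mul_assoc i e j, ← ei]; group
        _ = i * j := by rw [ee, one_mul]
    have he1 : e = 1 := mul_right_cancel (h3.trans (one_mul _).symm)
    rw [he1, one_mul] at hq hj'
    exact ⟨by rw [mul_inv_eq_iff_eq_mul] at hq; exact hq, by rw [mul_inv_eq_iff_eq_mul] at hj'; exact hj'⟩
  · -- `u i u⁻¹ = e j`
    exfalso
    have hj' : u * j * u⁻¹ = e * (i * j) := by
      rw [hj, hq]
      calc x * (e * j) * x⁻¹ = (x * e * x⁻¹) * (x * j * x⁻¹) := by group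
        _ = e * (i * j) := by rw [xe, xj]
    have h3 : i = i * j := by
      calc i = u * (u * i * u⁻¹) * u⁻¹ := (h2 i).symm
        _ = u * (e * j) * u⁻¹ := by rw [hq]
        _ = (u * e * u⁻¹) * (u * j * u⁻¹) := by group
        _ = e * (e * (i * j)) := by rw [ue, hj']
        _ = i * j := by rw [← mul_assoc, ee, one_mul]
    exact j1 (mul_left_cancel ((mul_one i).trans h3)).symm
  · -- `u i u⁻¹ = e i j`
    exfalso
    have h4 : j * (i * j) = i := by
      rw [← mul_assoc, ji, mul_assoc, mul_assoc, zj, ← mul_assoc j j z, jj, zz, mul_one]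
    have hj' : u * j * u⁻¹ = e * i := by
      rw [hj, hq]
      calc x * (e * (i * j)) * x⁻¹ = (x * e * x⁻¹) * ((x * i * x⁻¹) * (x * j * x⁻¹)) := by group
        _ = e * i := by rw [xe, xi, xj, h4]
    have h3 : i = (i * j) * (e * i) := by
      calc i = u * (u * i * u⁻¹) * u⁻¹ := (h2 i).symm
        _ = u * (e * (i * j)) * u⁻¹ := by rw [hq]
        _ = (u * e * u⁻¹) * ((u * i * u⁻¹) * (u * j * u⁻¹)) := by group
        _ = e * ((e * (i * j)) * (e * i)) := by rw [ue, hj', hq]
        _ = (e * e) * ((i * j) * (e * i)) := by group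
        _ = (i * j) * (e * i) := by rw [ee, one_mul]
    have h5 : (1 : G) = j * (e * i) := by
      apply mul_left_cancel (a := i)
      rw [mul_one, ← mul_assoc]
      exact h3
    -- `j = (e i)⁻¹` commutes with `i`
    have h6 : i * j = j * i := by
      have h7 : j = (e * i)⁻¹ := eq_inv_of_mul_eq_one_left h5.symm
      have h8 : i * (e * i) = (e * i) * i := by rw [ei, mul_assoc i e i, ei]
      have h9 : Commute i (e * i) := h8
      rw [h7]
      exact h9.inv_right.eq
    rw [h6] at ji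
    have : z = 1 := by
      have h10 : j * i * 1 = j * i * z := by rw [mul_one]; exact ji
      exact (mul_left_cancel h10).symm
    exact z1 this

/-- `x₂` fixes `q`: then `q` commutes with `k`, `l` -/
theorem fix_comm {z q x k l : G} (zz : z * z = 1) (z1 : z ≠ 1) (zl : l * z = z * l)
    (xq : x * q = q * x) (xz : x * z = z * x) (xk : x * k * x⁻¹ = l) (xl : x * l * x⁻¹ = k * l)
    (hk : q * k = k * q ∨ q * k = k * q * z) : q * k = k * q ∧ q * l = l * q := by
  have hxq : x⁻¹ * q = q * x⁻¹ := (Commute.inv_left (a := x) (b := q) xq).eq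
  have conj : ∀ a b : G, x * (a * b) * x⁻¹ = (x * a * x⁻¹) * (x * b * x⁻¹) := fun a b => by group
  have hq : x * q * x⁻¹ = q := by rw [xq, mul_inv_cancel_right]
  have hz : x * z * x⁻¹ = z := by rw [xz, mul_inv_cancel_right]
  rcases hk with hk | hk
  · refine ⟨hk, ?_⟩
    have h1 := congrArg (fun w => x * w * x⁻¹) hk
    simp only [conj, hq, xk] at h1
    exact h1
  · exfalso
    have h1 := congrArg (fun w => x * w * x⁻¹) hk
    simp only [conj, hq, xk, hz] at h1
    have h2 := congrArg (fun w => x * w * x⁻¹) h1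
    simp only [conj, hq, xl, hz] at h2
    -- `q k l = k l q z`, but `q k l = k l q z z`
    have h3 : q * (k * l) = k * l * q := by
      calc q * (k * l) = (q * k) * l := by group
        _ = k * (q * (z * l)) := by rw [hk]; group
        _ = k * (q * l) * z := by rw [← zl]; group
        _ = k * (l * q * z) * z := by rw [h1]
        _ = k * l * q * (z * z) := by group
        _ = k * l * q := by rw [zz, mul_one]
    rw [h2] at h3
    exact z1 (mul_left_cancel (h3.trans (mul_one _).symm))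

/-- an element of `Q` commuting with `k` and `l` -/
theorem mem_quat {Q : Subgroup G} {z i j k l : G} (P : Plus Q z i j k l) {q : G} (hq : q ∈ Q) (qk : q * k = k * q)
    (ql : q * l = l * q) : ∃ e : G, (e = 1 ∨ e = z) ∧ (q = e ∨ q = e * i ∨ q = e * j ∨ q = e * (i * j)) := by
  have hi : i ∈ Q := by rw [P.gen]; exact _root_.Subgroup.subset_closure (by simp)
  have hj : j ∈ Q := by rw [P.gen]; exact _root_.Subgroup.subset_closure (by simp)
  have zi : z * i = i * z := (P.large.comm_z i hi).symm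
  have zj : z * j = j * z := (P.large.comm_z j hj).symm
  have zz := P.large.z_sq
  have cen : ∀ w : G, w ∈ Q → w * i = i * w → w * j = j * w → w * k = k * w → w * l = l * w → w = 1 ∨ w = z := by
    intro w hw wi wj wk wl
    refine P.large.cent w hw fun y hy => ?_
    rw [P.gen] at hy
    induction hy using closure_induction with
    | mem y hy =>
      have hy' : y = i ∨ y = j ∨ y = k ∨ y = l := by simpa using hy
      rcases hy' with rfl | rfl | rfl | rfl
      · exact wi
      · exact wj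
      · exact wk
      · exact wl
    | one => simp
    | mul a b _ _ ha hb => rw [← mul_assoc, ha, mul_assoc, hb, mul_assoc]
    | inv a _ ha => exact (Commute.inv_right (a := w) (b := a) ha).eq
  have ki := P.ki; have li := P.li; have kj := P.kj; have lj := P.lj; have ji := P.ji
  have ij : i * j = j * i * z := by rw [ji, mul_assoc, zz, mul_one]
  -- `q = (q w⁻¹) w`
  have key : ∀ w : G, w ∈ Q → w * w = z ∨ w * w = 1 → (q * w) * i = i * (q * w) → (q * w) * j = j * (q * w) →
      w * k = k * w → w * l = l * w → ∃ e : G, (e = 1 ∨ e = z) ∧ q = e * w := by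
    intro w hw ww h1 h2 h3 h4
    have h5 := cen (q * w) (Q.mul_mem hq hw) h1 h2
      (by rw [mul_assoc, h3, ← mul_assoc, qk, mul_assoc]) (by rw [mul_assoc, h4, ← mul_assoc, ql, mul_assoc])
    have h6 : q = (q * w) * w⁻¹ := by group
    rcases ww with ww | ww
    · have h7 : w⁻¹ = z * w := by
        rw [inv_eq_iff_mul_eq_one, P.large.comm_z w hw |>.symm, ← mul_assoc, ww, zz]
      rcases h5 with h5 | h5
      · exact ⟨z, Or.inr rfl, by rw [h6, h5, h7, one_mul]⟩
      · exact ⟨1, Or.inl rfl, by rw [h6, h5, h7, ← mul_assoc, zz]⟩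
    · have h7 : w⁻¹ = w := inv_eq_of_mul_eq_one_left ww
      rcases h5 with h5 | h5
      · exact ⟨1, Or.inl rfl, by rw [h6, h5, h7]⟩
      · exact ⟨z, Or.inr rfl, by rw [h6, h5, h7]⟩
  rcases P.large.comm q hq i hi with qi | qi <;> rcases P.large.comm q hq j hj with qj | qj
  · obtain ⟨e, he, h⟩ := key 1 Q.one_mem (Or.inr (one_mul 1)) (by simpa only [_root_.mul_one] using qi) (by simpa using qj) (by simp) (by simp)
    exact ⟨e, he, Or.inl (by rw [h, mul_one])⟩
  · obtain ⟨e, he, h⟩ := key i hi (Or.inl P.ii) (by rw [← mul_assoc i q i, ← qi])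
      (by rw [mul_assoc q i j, ij, ← mul_assoc, ← mul_assoc, qj, mul_assoc (j * q) z i, zi, ← mul_assoc,
            mul_assoc (j * q * i) z z, zz, mul_one, mul_assoc]) ki.symm li.symm
    exact ⟨e, he, Or.inr (Or.inl h)⟩
  · obtain ⟨e, he, h⟩ := key j hj (Or.inl P.jj)
      (by rw [mul_assoc q j i, ji, ← mul_assoc, ← mul_assoc, qi, mul_assoc (i * q) z j, zj, ← mul_assoc,
            mul_assoc (i * q * j) z z, zz, mul_one, mul_assoc]) (by rw [← mul_assoc j q j, ← qj]) kj.symm lj.symm
    exact ⟨e, he, Or.inr (Or.inr (Or.inl h))⟩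
  · have hijz : (i * j) * z = z * (i * j) := P.large.comm_z _ (Q.mul_mem hi hj)
    have g1 : i * j * (i * j) = z := by
      calc i * j * (i * j) = i * (j * i) * j := by group
        _ = (i * i) * (j * (z * j)) := by rw [ji]; group
        _ = z * (j * (j * z)) := by rw [P.ii, zj]
        _ = z * (j * j) * z := by group
        _ = z := by rw [P.jj, zz, one_mul]
    have g2 : q * (i * j) * i = i * (q * (i * j)) := by
      calc q * (i * j) * i = (q * i) * (j * i) := by group
        _ = i * q * z * (i * j * z) := by rw [qi, ji]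
        _ = i * q * (z * (i * j)) * z := by group
        _ = i * (q * (i * j)) * (z * z) := by rw [← hijz]; group
        _ = i * (q * (i * j)) := by rw [zz, mul_one]
    have g3 : q * (i * j) * j = j * (q * (i * j)) := by
      calc q * (i * j) * j = q * (j * i * z) * j := by rw [ij]
        _ = (q * j) * (i * (z * j)) := by group
        _ = j * q * z * (i * (j * z)) := by rw [qj, zj]
        _ = j * q * (z * (i * j)) * z := by group
        _ = j * (q * (i * j)) * (z * z) := by rw [← hijz]; group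
        _ = j * (q * (i * j)) := by rw [zz, mul_one]
    obtain ⟨e, he, h⟩ := key (i * j) (Q.mul_mem hi hj) (Or.inl g1) g2 g3
      (by rw [mul_assoc, ← kj, ← mul_assoc, ← ki, mul_assoc]) (by rw [mul_assoc, ← lj, ← mul_assoc, ← li, mul_assoc])
    exact ⟨e, he, Or.inr (Or.inr (Or.inr h))⟩

/-- **No involution of `C(z)` other than `z` commutes with `x₁` and `x₂`.** -/
theorem no_invol {Q : Subgroup G} {z i j k l x₁ x₂ u : G} (P : Plus Q z i j k l) (a1 : Act z i j k l x₁ j (i * j) k l)
    (a2 : Act z i j k l x₂ i j l (k * l)) (uz : u * z = z * u) (uu : u * u = 1) (u1 : u * x₁ = x₁ * u)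
    (u2 : u * x₂ = x₂ * u) : u = 1 ∨ u = z := by
  have hi : i ∈ Q := by rw [P.gen]; exact _root_.Subgroup.subset_closure (by simp)
  have hj : j ∈ Q := by rw [P.gen]; exact _root_.Subgroup.subset_closure (by simp)
  have hk : k ∈ Q := by rw [P.gen]; exact _root_.Subgroup.subset_closure (by simp)
  have hl : l ∈ Q := by rw [P.gen]; exact _root_.Subgroup.subset_closure (by simp)
  have zz := P.large.z_sq
  have z1 := P.large.z_ne
  have zc : ∀ w ∈ Q, z * w = w * z := fun w hw => (P.large.comm_z w hw).symm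
  have cj : ∀ {x a b : G}, x * a * x⁻¹ = b → x * a = b * x := fun h => by rw [← h]; group
  -- an element commuting with `x` moves the centralizer of `x`
  have mv : ∀ {x a : G}, u * x = x * u → x * a = a * x → x * (u * a * u⁻¹) = (u * a * u⁻¹) * x := by
    intro x a h1 h2
    have h3 : x * u⁻¹ = u⁻¹ * x := (Commute.inv_left (a := u) (b := x) h1).eq.symm
    calc x * (u * a * u⁻¹) = (x * u) * a * u⁻¹ := by group
      _ = u * (x * a) * u⁻¹ := by rw [← h1]; group
      _ = u * a * (x * u⁻¹) := by rw [h2]; group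
      _ = (u * a * u⁻¹) * x := by rw [h3]; group
  have x1z : x₁ * z = z * x₁ := cj a1.z
  have x2z : x₂ * z = z * x₂ := cj a2.z
  -- first quaternion group
  have q1 : u * i * u⁻¹ ∈ Q := P.large.conj_mem u uz i hi
  have f1 := fix_comm zz z1 (P.large.comm_z l hl) (mv u2 (cj a2.i)) x2z a2.k a2.l
    (P.large.comm (u * i * u⁻¹) q1 k hk)
  obtain ⟨e, he, h⟩ := mem_quat P q1 f1.1 f1.2
  have r1 := quat_fix (e := e) zz z1 (zc i hi) (zc j hj) P.ii P.jj P.ji a1.z a1.i a1.j uz u1 uu he h
  -- second quaternion group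
  have P' : Plus Q z k l i j :=
    ⟨P.large, P.card, by
      rw [P.gen]
      congr 1
      ext x
      simp only [Set.mem_insert_iff, Set.mem_singleton_iff]
      (clear * -; tauto), P.kk, P.ll, P.ii, P.jj, P.lk, P.ji, P.ki.symm, P.kj.symm, P.li.symm, P.lj.symm⟩
  have q2 : u * k * u⁻¹ ∈ Q := P.large.conj_mem u uz k hk
  have f2 := fix_comm zz z1 (P.large.comm_z j hj) (mv u1 (cj a1.k)) x1z a1.i a1.j
    (P.large.comm (u * k * u⁻¹) q2 i hi)
  obtain ⟨e', he', h'⟩ := mem_quat P' q2 f2.1 f2.2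
  have r2 := quat_fix (e := e') zz z1 (zc k hk) (zc l hl) P.kk P.ll P.lk a2.z a2.k a2.l uz u2 uu he' h'
  have hall : ∀ y ∈ Q, u * y = y * u := by
    intro y hy
    rw [P.gen] at hy
    induction hy using closure_induction with
    | mem y hy =>
      have hy' : y = i ∨ y = j ∨ y = k ∨ y = l := by simpa using hy
      rcases hy' with rfl | rfl | rfl | rfl
      · exact r1.1
      · exact r1.2
      · exact r2.1
      · exact r2.2
    | one => simp
    | mul a b _ _ ha hb => rw [← mul_assoc, ha, mul_assoc, hb, mul_assoc]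
    | inv a _ ha => exact (Commute.inv_right (a := u) (b := a) ha).eq
  exact P.large.cent u (P.large.self u uz hall) hall

/-- **No involution of `C(z)` other than `z` commutes with an elementary abelian subgroup of order 9 of `C(z)`.** -/
theorem no_pair [Finite G] {Q : Subgroup G} {z i j k l x₁ x₂ : G} (P : Plus Q z i j k l)
    (a1 : Act z i j k l x₁ j (i * j) k l) (a2 : Act z i j k l x₂ i j l (k * l)) (x13 : x₁ ^ 3 = 1) (x23 : x₂ ^ 3 = 1)
    (xx : x₁ * x₂ = x₂ * x₁) (hc : ¬ 27 ∣ Nat.card (centralizer ({z} : Set G))) {B : Subgroup G}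
    (hB : IsElementaryAbelian 3 B) (hBc : 9 ≤ Nat.card B) (hBz : ∀ b ∈ B, b * z = z * b) {u : G} (uz : u * z = z * u)
    (uu : u * u = 1) (hBu : ∀ b ∈ B, b * u = u * b) : u = 1 ∨ u = z := by
  have : Fact (Nat.Prime 3) := ⟨Nat.prime_three⟩
  set C : Subgroup G := centralizer ({z} : Set G) with hC
  have memC : ∀ {g : G}, g ∈ C ↔ g * z = z * g := mem_centralizer_singleton_iff
  have hBC : B ≤ C := fun b hb => memC.2 (hBz b hb)
  -- `B` is a Sylow subgroup of `C`
  have hBp : IsPGroup 3 (B.subgroupOf C) := fun b => ⟨1, Subtype.ext (Subtype.ext (by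
    rw [pow_one]
    exact hB.2 _ b.2))⟩
  obtain ⟨S, hS⟩ := hBp.exists_le_sylow
  have hBS : B.subgroupOf C = S := by
    refine eq_of_le_of_card_ge hS ?_
    have h1 : Nat.card (B.subgroupOf C) = Nat.card B := Nat.card_congr (subgroupOfEquivOfLe hBC).toEquiv
    rw [h1]
    obtain ⟨m, hm⟩ := IsPGroup.iff_card.1 S.2
    have hm' : m ≤ 2 := by
      by_contra hcon
      push Not at hcon
      refine hc (Dvd.dvd.trans ?_ (card_subgroup_dvd_card (S : Subgroup C)))
      have h2 : Nat.card (S : Subgroup C) = 3 ^ m := hm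
      rw [h2]
      exact pow_dvd_pow 3 hcon
    have h2 : Nat.card (S : Subgroup C) = 3 ^ m := hm
    rw [h2]
    exact (Nat.pow_le_pow_right (by norm_num) hm').trans hBc
  -- `⟨x₁, x₂⟩` is contained in a Sylow subgroup
  have hx1 : x₁ ∈ C := memC.2 (by have := a1.z; rwa [mul_inv_eq_iff_eq_mul] at this)
  have hx2 : x₂ ∈ C := memC.2 (by have := a2.z; rwa [mul_inv_eq_iff_eq_mul] at this)
  let y1 : C := ⟨x₁, hx1⟩
  let y2 : C := ⟨x₂, hx2⟩
  have y13 : y1 ^ 3 = 1 := Subtype.ext x13
  have y23 : y2 ^ 3 = 1 := Subtype.ext x23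
  have yy : y1 * y2 = y2 * y1 := Subtype.ext xx
  have hD : IsPGroup 3 (closure ({y1, y2} : Set C)) := by
    have h1 : ∀ w ∈ _root_.Subgroup.closure ({y1, y2} : Set C), ∃ a b : ℤ, w = y1 ^ a * y2 ^ b := by
      intro w hw
      induction hw using closure_induction with
      | mem w hw =>
        rcases hw with rfl | rfl
        · exact ⟨1, 0, by simp⟩
        · exact ⟨0, 1, by simp only [_root_.zpow_ofNat, _root_.pow_zero, _root_.pow_one, _root_.one_mul]⟩
      | one => exact ⟨0, 0, by simp⟩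
      | mul v w _ _ hv hw =>
        obtain ⟨a, b, rfl⟩ := hv
        obtain ⟨c, d, rfl⟩ := hw
        refine ⟨a + c, b + d, ?_⟩
        have h2 : Commute (y2 ^ b) (y1 ^ c) := (Commute.zpow_zpow (show Commute y2 y1 from yy.symm) b c)
        rw [zpow_add, zpow_add]
        calc y1 ^ a * y2 ^ b * (y1 ^ c * y2 ^ d) = y1 ^ a * (y2 ^ b * y1 ^ c) * y2 ^ d := by group
          _ = y1 ^ a * (y1 ^ c * y2 ^ b) * y2 ^ d := by rw [h2.eq]
          _ = y1 ^ a * y1 ^ c * (y2 ^ b * y2 ^ d) := by group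
      | inv w _ hw =>
        obtain ⟨a, b, rfl⟩ := hw
        refine ⟨-a, -b, ?_⟩
        rw [mul_inv_rev, ← zpow_neg, ← zpow_neg]
        exact (Commute.zpow_zpow (show Commute y2 y1 from yy.symm) (-b) (-a)).eq
    rintro ⟨w, hw⟩
    refine ⟨1, Subtype.ext ?_⟩
    obtain ⟨a, b, rfl⟩ := h1 w hw
    show (y1 ^ a * y2 ^ b) ^ 3 ^ 1 = 1
    have h2 : Commute (y1 ^ a) (y2 ^ b) := (Commute.zpow_zpow (show Commute y1 y2 from yy) a b)
    rw [pow_one, h2.mul_pow, ← zpow_natCast, ← zpow_natCast, ← zpow_mul, ← zpow_mul, mul_comm a, mul_comm b,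
      zpow_mul, zpow_mul, zpow_natCast, zpow_natCast, y13, y23, one_zpow, one_zpow, one_mul]
  obtain ⟨T, hT⟩ := hD.exists_le_sylow
  obtain ⟨c, hcT⟩ := MulAction.exists_smul_eq C T S
  have hmem : ∀ w ∈ _root_.Subgroup.closure ({y1, y2} : Set C), ((c * w * c⁻¹ : C) : G) ∈ B := by
    intro w hw
    have h1 : c * w * c⁻¹ ∈ (S : Subgroup C) := by
      rw [← hcT]
      exact smul_mem_pointwise_smul w (MulAut.conj c) (T : Subgroup C) (hT hw)
    rw [← hBS] at h1
    exact h1
  have m1 : (c : G) * x₁ * (c : G)⁻¹ ∈ B := hmem y1 (_root_.Subgroup.subset_closure (by simp))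
  have m2 : (c : G) * x₂ * (c : G)⁻¹ ∈ B := hmem y2 (_root_.Subgroup.subset_closure (by simp))
  have cz : (c : G) * z = z * c := memC.1 c.2
  set v : G := (c : G)⁻¹ * u * c with hv
  have key : ∀ x : G, (c : G) * x * (c : G)⁻¹ ∈ B → v * x = x * v := by
    intro x hx
    have h1 := hBu _ hx
    calc v * x = (c : G)⁻¹ * (u * (c * x * (c : G)⁻¹)) * c := by rw [hv]; group
      _ = (c : G)⁻¹ * ((c * x * (c : G)⁻¹) * u) * c := by rw [h1]
      _ = x * v := by rw [hv]; group
  have czi : z * (c : G)⁻¹ = (c : G)⁻¹ * z := (Commute.inv_left (a := (c : G)) (b := z) cz).eq.symm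
  have vz : v * z = z * v := by
    calc v * z = (c : G)⁻¹ * u * (c * z) := by rw [hv]; group
      _ = (c : G)⁻¹ * (u * z) * c := by rw [cz]; group
      _ = ((c : G)⁻¹ * z) * u * c := by rw [uz]; group
      _ = z * v := by rw [← czi, hv]; group
  have vv : v * v = 1 := by
    calc v * v = (c : G)⁻¹ * (u * u) * c := by rw [hv]; group
      _ = 1 := by rw [uu]; group
  have hu : u = c * v * (c : G)⁻¹ := by rw [hv]; group
  rcases no_invol P a1 a2 vz vv (key _ m1) (key _ m2) with h | h
  · left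
    rw [hu, h]; group
  · right
    rw [hu, h, cz, mul_inv_cancel_right]

/-- The conditions on an involution `t` for `TwoLocalPRankLE 3 2 G`: the elementary abelian 3-subgroups of `C(t)` have
order at most 9, and `t` is the only involution commuting with one of order 9. -/
def Cnd (t : G) : Prop :=
  ∀ E : Subgroup G, IsElementaryAbelian 3 E → (∀ e ∈ E, e * t = t * e) → Nat.card E < 27 ∧
    (9 ≤ Nat.card E → ∀ u : G, u * u = 1 → t * u = u * t → (∀ e ∈ E, e * u = u * e) → u = 1 ∨ u = t)

theorem Cnd.map {H : Type*} [Group H] (f : G ≃* H) {t : G} (h : Cnd t) : Cnd (f t) := by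
  intro E hE hEt
  set E' : Subgroup G := E.map f.symm.toMonoidHom with hE'
  have mE' : ∀ {e : G}, e ∈ E' → f e ∈ E := by
    rintro _ ⟨a, ha, rfl⟩
    show f (f.symm a) ∈ E
    rw [MulEquiv.apply_symm_apply]
    exact ha
  have mE : ∀ {e : H}, e ∈ E → f.symm e ∈ E' := fun he => ⟨_, he, rfl⟩
  have cE' : Nat.card E' = Nat.card E := card_map_of_injective f.symm.injective
  have hE'e : IsElementaryAbelian 3 E' := by
    refine ⟨⟨⟨?_⟩⟩, ?_⟩
    · rintro ⟨a, ha⟩ ⟨b, hb⟩
      have h1 : f a * f b = f b * f a := congrArg Subtype.val (hE.1.is_comm.comm (⟨f a, mE' ha⟩ : E) ⟨f b, mE' hb⟩)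
      apply Subtype.ext
      apply f.injective
      show f (a * b) = f (b * a)
      rw [map_mul, map_mul, h1]
    · intro a ha
      apply f.injective
      rw [map_pow, hE.2 _ (mE' ha), map_one]
  obtain ⟨h1, h2⟩ := h E' hE'e (fun e he => f.injective (by rw [map_mul, map_mul]; exact hEt _ (mE' he)))
  rw [cE'] at h1 h2
  refine ⟨h1, fun h9 u uu tu hEu => ?_⟩
  rcases h2 h9 (f.symm u) (by rw [← map_mul, uu, map_one])
    (f.injective (by rw [map_mul, map_mul, MulEquiv.apply_symm_apply]; exact tu))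
    (fun e he => f.injective (by rw [map_mul, map_mul, MulEquiv.apply_symm_apply]; exact hEu _ (mE' he))) with h3 | h3
  · left
    rw [← f.apply_symm_apply u, h3, map_one]
  · right
    rw [← f.apply_symm_apply u, h3]

theorem Cnd.conj {t : G} (h : Cnd t) (g : G) : Cnd (g * t * g⁻¹) := h.map (MulAut.conj g)

theorem twoLocal_le_of_cnd [Finite G] (h : ∀ t : G, orderOf t = 2 → Cnd t) : TwoLocalPRankLE 3 2 G := by
  refine twoLocal_le Nat.prime_three (by norm_num) ?_ ?_
  · intro t ht E hE hEc hEt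
    have := (h t ht E hE hEt).1
    norm_num only [] at hEc
    omega
  · intro t u ht hu htu htu' B hB hBc hBt hBu
    have uu : u * u = 1 := by
      have := pow_orderOf_eq_one u
      rwa [hu, sq] at this
    rcases (h t ht B hB hBt).2 (by norm_num only [] at hBc; exact hBc) u uu htu' hBu with h1 | h1
    · rw [h1, orderOf_one] at hu
      exact absurd hu (by norm_num)
    · exact htu h1.symm

/-- **The condition from the coordinates.** -/
theorem cnd_of_plus [Finite G] {Q : Subgroup G} {z i j k l x₁ x₂ : G} (P : Plus Q z i j k l)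
    (a1 : Act z i j k l x₁ j (i * j) k l) (a2 : Act z i j k l x₂ i j l (k * l)) (x13 : x₁ ^ 3 = 1) (x23 : x₂ ^ 3 = 1)
    (xx : x₁ * x₂ = x₂ * x₁) (hc : ¬ 27 ∣ Nat.card (centralizer ({z} : Set G))) : Cnd z := by
  intro E hE hEz
  refine ⟨?_, fun h9 u uu zu hEu => no_pair P a1 a2 x13 x23 xx hc hE h9 hEz zu.symm uu hEu⟩
  by_contra hcon
  push Not at hcon
  refine hc ((pow_dvd_of_le (k := 3) Nat.prime_three hE.2 (by norm_num only []; exact hcon)).trans
    (card_dvd_of_le fun e he => mem_centralizer_singleton_iff.2 (hEz e he)))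

end Cfsg.Agent.BiChar.Small

end

-- merged: Cfsg.Agent.BiChar.SmallU43
section

/-!
# S1798: `U₄(3)` (helper23)
-/

set_option autoImplicit false

namespace Cfsg.Agent.BiChar.Small

open Cfsg Subgroup Cfsg.Agent.SevenCases

universe u

theorem one_or_sq {G : Type*} [Group G] {t : G} (ht : orderOf t = 2) : t ≠ 1 ∧ t * t = 1 := by
  constructor
  · rintro rfl
    rw [orderOf_one] at ht
    exact absurd ht (by norm_num)
  · have := pow_orderOf_eq_one t
    rwa [ht, sq] at this

theorem twoLocal_u43 (F : Type) [Field F] [Fintype F] (hF : Fintype.card F = 9) :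
    TwoLocalPRankLE 3 2 (PSU 4 F 3) := by
  have hc : CharP F 3 := charP_of_card_eq_prime_pow (f := 2) (by rw [hF]; norm_num)
  have hfin : Finite (PSU 4 F 3) := inferInstance
  obtain ⟨i, j, k, l, x₁, x₂, y, s, T, -, -⟩ := OddHalf.D6.QThree.U43Tw.exists_tw hF
  have hz := cnd_of_plus T.toPlus T.x₁_act T.x₂_act T.x₁3 T.x₂3 T.xx (by rw [T.card_cent]; norm_num)
  refine twoLocal_le_of_cnd fun t ht => ?_
  obtain ⟨h1, h2⟩ := one_or_sq ht
  obtain ⟨g, hg⟩ := OddHalf.D6.QThree.U43Tw.one_class hF t h2 h1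
  rw [← hg]
  exact hz.conj g

theorem nd_u43 : ∀ p : ℕ, p.Prime → p ≠ 2 → p ≠ 3 → ¬ p ^ 4 ∣ 2 ^ 7 * 25515 :=
  not_four_dvd_three 18 3 [5, 7] (by norm_num) (by simp only [List.forall_mem_cons]; norm_num)

theorem kill_u43 : Kill.{u} (fun X _ => PsuOdd (fun n q => n = 4 ∧ q = 3) X) := by
  rintro G _ _ ⟨F, _, _, n, q, -, hF, ⟨rfl, rfl⟩, ⟨e⟩⟩ p hp hp2 h4
  have hF9 : Fintype.card F = 9 := by rw [hF]; norm_num
  by_cases hp3 : p = 3
  · subst hp3
    exact Sigma.Pair.twoLocalPRankLE_congr e.symm (twoLocal_u43 F hF9)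
  · have hc : CharP F 3 := charP_of_card_eq_prime_pow (f := 2) (by rw [hF9]; norm_num)
    refine absurd h4 (not_atLeast_of_not_dvd hp ?_)
    rw [Nat.card_congr e.toEquiv, OddHalf.D6.QThree.U43Tw.card_K hF9]
    exact nd_u43 p hp hp2 hp3

end Cfsg.Agent.BiChar.Small

end

-- merged: Cfsg.Agent.BiChar.SmallG23
section

/-!
# S1798: `G₂(3)` (helper23)
-/

set_option autoImplicit false
set_option maxRecDepth 10000

namespace Cfsg.Agent.BiChar.Small

open Cfsg Subgroup Cfsg.Agent.SevenCases Cfsg.Lie Cfsg.Agent.GTwoThree.Model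
open Cfsg.Agent.OddHalf.Small.G23Data Cfsg.Agent.OddHalf.Small.G23Check
open Cfsg.Agent.OddHalf.D6.QThree.G23Words Cfsg.Agent.OddHalf.D6.QThree

universe u

theorem twoLocal_g23 : TwoLocalPRankLE 3 2 ↥Gp := by
  have hfin : Finite ↥Gp := Nat.finite_of_card_ne_zero (by rw [OddHalf.Small.G23.card_G]; norm_num)
  have T := G23Facts.case9c G23Facts.words
  have hz := cnd_of_plus T.toPlus T.x₁_act T.x₂_act T.x₁3 T.x₂3 T.xx (by rw [T.card_cent]; norm_num)
  refine twoLocal_le_of_cnd fun t ht => ?_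
  obtain ⟨c, hc⟩ := OddHalf.Small.G23.exists_conj ht
  have h1 : c⁻¹ * (c * t * c⁻¹) * c⁻¹⁻¹ = t := by group
  rw [hc] at h1
  rw [← h1]
  exact hz.conj c⁻¹

theorem nd_g23 : ∀ p : ℕ, p.Prime → p ≠ 2 → p ≠ 3 → ¬ p ^ 4 ∣ 2 ^ 6 * 66339 :=
  not_four_dvd_three 18 3 [7, 13] (by norm_num) (by simp only [List.forall_mem_cons]; norm_num)

private theorem congr_sub {G H : Type*} [Group G] [Group H] {N : Subgroup G} {p k : ℕ} (e : ↥N ≃* H)
    (h : TwoLocalPRankLE p k ↥N) : TwoLocalPRankLE p k H := Sigma.Pair.twoLocalPRankLE_congr e h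

theorem kill_g23 : Kill.{u} (fun X _ => GTwoOdd (fun q => q = 3) X) := by
  rintro G _ _ ⟨F, _, _, -, hF, ⟨e⟩⟩ p hp hp2 h4
  have h3 : Fintype.card (ZMod 3) = Fintype.card F := by rw [hF]; rfl
  let φ : ZMod 3 ≃+* F := FiniteField.ringEquivOfCardEq h3
  have e' : ↥Gp ≃* G := (ChevalleyStructure.FieldIso.groupEquiv chevG2 φ).trans e.symm
  by_cases hp3 : p = 3
  · subst hp3
    exact congr_sub e' twoLocal_g23
  · refine absurd h4 (not_atLeast_of_not_dvd hp ?_)
    rw [← Nat.card_congr e'.toEquiv, OddHalf.Small.G23.card_G]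
    exact nd_g23 p hp hp2 hp3

end Cfsg.Agent.BiChar.Small

end

-- merged: Cfsg.Agent.BiChar.SmallL43
section

/-!
# S1798: `L₄(3)` (helper23)
-/

set_option autoImplicit false

namespace Cfsg.Agent.BiChar.Small.LFour

open Matrix Subgroup Cfsg Cfsg.Agent.GH.Cov.LieL4 Cfsg.Agent.SevenCases Cfsg.Agent.ResEven.LFour

universe u

theorem lift_three {x : L} (hx : x ^ 3 = 1) : ∃ A : S4 F3, pr A = x ∧ A ^ 3 = 1 := by
  obtain ⟨A, rfl⟩ := pr_surj x
  rw [← map_pow, pr_eq_one_iff] at hx
  rcases hx with h | h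
  · exact ⟨A, rfl, h⟩
  · refine ⟨m1 * A, by rw [map_mul, pr_m1, one_mul], ?_⟩
    have hc : Commute (m1 : S4 F3) A := m1_comm A
    rw [hc.mul_pow, h, pow_succ, pow_two, m1_sq, one_mul, m1_sq]

theorem cube_one {e : E} (h : e ^ 3 = 1) : e = 1 := by
  have h1 : (e - 1) ^ 3 = 0 := by
    rw [sub_pow_char, h, one_pow, sub_self]
  exact sub_eq_zero.1 (pow_eq_zero_iff (by norm_num) |>.1 h1)

/-- elements of order three of `C(t)` lie in `N` -/
theorem mem_N {x : L} (hx : x ^ 3 = 1) (hxt : x * t = t * x) : x ∈ N := by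
  obtain ⟨A, rfl, hA⟩ := lift_three hx
  have h1 : t0 * A = A * t0 := comm_of_pow_three (comm_pr.1 hxt.symm) hA
  have hD : A ∈ Dt := mem_Dt.2 h1.symm
  have h2 : del ⟨A, hD⟩ = 1 := by
    apply cube_one
    rw [← map_pow]
    have : (⟨A, hD⟩ : Dt) ^ 3 = 1 := Subtype.ext hA
    rw [this, map_one]
  obtain ⟨M, hM⟩ := del_ker h2
  exact ⟨M, congrArg pr hM⟩

/-- the images of the upper transvections -/
theorem up_mul (a b : E) : up a * up b = up (a + b) := by
  apply Subtype.ext
  show (!![1, a; 0, 1] : Matrix (Fin 2) (Fin 2) E) * !![1, b; 0, 1] = !![1, a + b; 0, 1]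
  ext i j
  fin_cases i <;> fin_cases j <;> simp [Matrix.mul_apply, Fin.sum_univ_two, add_comm]

theorem up_zero : up (0 : E) = 1 := by
  apply Subtype.ext
  show (!![1, 0; 0, 1] : Matrix (Fin 2) (Fin 2) E) = 1
  ext i j
  (revert i j; simp only [_root_.Fin.forall_fin_succ, _root_.Matrix.of_apply, _root_.Matrix.cons_val', _root_.Matrix.cons_val_fin_one, Fin.isValue, _root_.Matrix.cons_val_zero, _root_.Matrix.cons_val_succ, _root_.IsEmpty.forall_iff, _root_.and_true, _root_.Matrix.one_apply_eq, Nat.reduceAdd, _root_.Fin.succ_zero_eq_one, _root_.ne_eq, _root_.zero_ne_one, _root_.not_false_eq_true, _root_.Matrix.one_apply_ne, _root_.and_self, _root_.Fin.succ_ne_zero, _root_.true_and])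

noncomputable def U : Subgroup L where
  carrier := Set.range fun a : E => phi (up a)
  one_mem' := ⟨0, by show phi (up 0) = 1; rw [up_zero, map_one]⟩
  mul_mem' := by
    rintro _ _ ⟨a, rfl⟩ ⟨b, rfl⟩
    exact ⟨a + b, by show phi (up (a + b)) = phi (up a) * phi (up b); rw [← map_mul, up_mul]⟩
  inv_mem' := by
    rintro _ ⟨a, rfl⟩
    refine ⟨-a, ?_⟩
    show phi (up (-a)) = (phi (up a))⁻¹
    rw [eq_inv_iff_mul_eq_one, ← map_mul, up_mul, neg_add_cancel, up_zero, map_one]

theorem U_pow {x : L} (hx : x ∈ U) : x ^ 3 = 1 := by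
  obtain ⟨a, rfl⟩ := hx
  show (phi (up a)) ^ 3 = 1
  rw [← map_pow, up_pow, map_one]

/-- an element of `C(t)` commuting with `U` -/
theorem cent_U {v : L} (hv : v * v = 1) (hvt : v * t = t * v) (hvU : ∀ a : E, v * phi (up a) = phi (up a) * v) :
    v = 1 ∨ v = t := by
  obtain ⟨A, rfl⟩ := pr_surj v
  have key : ∀ a : E, A.1 * Phi (up a).1 = Phi (up a).1 * A.1 := by
    intro a
    have h1 : A * Psi (up a) = Psi (up a) * A :=
      comm_of_pow_three (comm_pr.1 (hvU a)) (by rw [← map_pow, up_pow, map_one])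
    exact congrArg Subtype.val h1
  have hup : ∀ u, Phi (up u).1 = fromBlocks 1 (f u) 0 1 := by
    intro u
    show fromBlocks (f 1) (f u) (f 0) (f 1) = _
    rw [map_one, map_zero]
  have e1 : ∀ u, A.1.toBlocks₁₁ + 0 = A.1.toBlocks₁₁ + f u * A.1.toBlocks₂₁ ∧
      A.1.toBlocks₁₁ * f u + A.1.toBlocks₁₂ = A.1.toBlocks₁₂ + f u * A.1.toBlocks₂₂ := by
    intro u
    have h := key u
    rw [hup, eq_blocks A, fromBlocks_multiply, fromBlocks_multiply, fromBlocks_inj] at h
    simp only [Matrix.mul_one, Matrix.one_mul, Matrix.mul_zero, Matrix.zero_mul, add_zero, zero_add] at h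
    exact ⟨by rw [add_zero]; exact h.1, h.2.1⟩
  have h21 : A.1.toBlocks₂₁ = 0 := by
    have h := (e1 1).1
    rw [map_one, Matrix.one_mul, add_right_inj] at h
    exact h.symm
  have hall : ∀ u, A.1.toBlocks₁₁ * f u = f u * A.1.toBlocks₂₂ := by
    intro u
    have h := (e1 u).2
    rw [add_comm] at h
    exact add_left_cancel h
  have h22 : A.1.toBlocks₁₁ = A.1.toBlocks₂₂ := by
    have h := hall 1
    rwa [map_one, Matrix.mul_one, Matrix.one_mul] at h
  have hJ : A.1.toBlocks₁₁ * (_root_.Cfsg.Agent.GH.Cov.LieL4.J : S2 F3).1 = (_root_.Cfsg.Agent.GH.Cov.LieL4.J : S2 F3).1 * A.1.toBlocks₁₁ := by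
    have h := hall (el 0 1)
    have h5 : (_root_.Cfsg.Agent.GH.Cov.LieL4.J : S2 F3).1 = f (el 0 1) := by rw [f_el, J_val]
    rw [← h5, ← h22] at h
    exact h
  obtain ⟨p, hp⟩ : ∃ p, A.1.toBlocks₁₁ = f p := ⟨_, (comm_J_iff _ hJ).symm⟩
  have hA : A.1 = fromBlocks (f p) A.1.toBlocks₁₂ 0 (f p) := by
    conv_lhs => rw [eq_blocks A, h21, ← h22, hp]
  have hp0 : p ≠ 0 := by
    rintro rfl
    have h1 := A.2
    rw [hA, map_zero, det_fromBlocks_zero₂₁, det_zero, zero_mul] at h1
    exact zero_ne_one h1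
  -- `A` commutes with `t₀`
  have hfJ : f iota = (_root_.Cfsg.Agent.GH.Cov.LieL4.J : S2 F3).1 := f_iota
  have hio : iota ≠ 0 := by
    intro h
    have := iota_mul
    rw [h, mul_zero] at this
    exact absurd this.symm (by norm_num)
  have hAt : A * t0 = t0 * A := by
    rcases comm_pr.1 hvt with h | h
    · exact h
    · exfalso
      have h1 := congrArg Subtype.val h
      rw [m1_val] at h1
      have h2 : A.1 * (t0 : S4 F3).1 = -((t0 : S4 F3).1 * A.1) := h1
      rw [hA, t0_val, fromBlocks_multiply, fromBlocks_multiply, fromBlocks_neg, fromBlocks_inj] at h2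
      have h3 := h2.1
      simp only [Matrix.mul_zero, Matrix.zero_mul, add_zero] at h3
      rw [← hfJ, ← map_mul, ← map_mul, ← map_neg] at h3
      have h4 := f_inj h3
      have h5 : (2 : E) * (p * iota) = 0 := by linear_combination h4
      have h2ne : (2 : E) ≠ 0 := by
        intro h6
        have h7 : (3 : E) = 0 := by
          have := CharP.cast_eq_zero E 3
          exact_mod_cast this
        have h8 : (1 : E) = 0 := by linear_combination h7 - h6
        exact one_ne_zero h8
      rcases mul_eq_zero.1 h5 with h6 | h6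
      · exact h2ne h6
      · rcases mul_eq_zero.1 h6 with h7 | h7
        · exact hp0 h7
        · exact hio h7
  obtain ⟨M, hM⟩ := exists_Phi (congrArg Subtype.val hAt)
  have hM1 : M 0 0 = p := by
    have h1 := hM
    rw [hA, Phi_apply, fromBlocks_inj] at h1
    exact (f_inj h1.1).symm
  have hM2 : M 1 0 = 0 := by
    have h1 := hM
    rw [hA, Phi_apply, fromBlocks_inj] at h1
    apply f_inj
    rw [map_zero]
    exact h1.2.2.1.symm
  have hM3 : M 1 1 = p := by
    have h1 := hM
    rw [hA, Phi_apply, fromBlocks_inj] at h1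
    exact (f_inj h1.2.2.2).symm
  have hMM : M * M = 1 ∨ M * M = -1 := by
    rw [← map_mul, pr_eq_one_iff] at hv
    rcases hv with h | h
    · left
      apply Phi_inj
      rw [map_mul, ← hM, map_one]
      exact congrArg Subtype.val h
    · right
      apply Phi_inj
      rw [map_mul, ← hM, map_neg, map_one]
      exact (congrArg Subtype.val h).trans coe_m1
  have h2ne : (2 : E) ≠ 0 := by
    intro h6
    have h7 : (3 : E) = 0 := by
      have := CharP.cast_eq_zero E 3
      exact_mod_cast this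
    have h8 : (1 : E) = 0 := by linear_combination h7 - h6
    exact one_ne_zero h8
  have hM01 : M 0 1 = 0 := by
    have h1 : (M * M) 0 1 = 0 := by rcases hMM with h | h <;> rw [h] <;> simp
    rw [Matrix.mul_apply, Fin.sum_univ_two, hM1, hM3] at h1
    have h3 : (2 * p) * M 0 1 = 0 := by linear_combination h1
    rcases mul_eq_zero.1 h3 with h4 | h4
    · rcases mul_eq_zero.1 h4 with h5 | h5
      · exact absurd h5 h2ne
      · exact absurd h5 hp0
    · exact h4
  have hMp : M = p • 1 := by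
    ext a b
    fin_cases a <;> fin_cases b
    · simpa using hM1
    · simpa using hM01
    · simpa using hM2
    · simpa using hM3
  have hpp : p * p = 1 ∨ p * p = -1 := by
    rw [hMp, scal_mul] at hMM
    rcases hMM with h | h
    · left
      have := congrFun (congrFun h 0) 0
      simpa only [_root_.Fin.isValue, _root_.Matrix.smul_apply, _root_.Matrix.one_apply_eq, _root_.smul_eq_mul, _root_.mul_one] using this
    · right
      have := congrFun (congrFun h 0) 0
      simpa using this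
  rcases hpp with h | h
  · left
    have h1 : (p - 1) * (p + 1) = 0 := by linear_combination h
    rw [pr_eq_one_iff]
    rcases mul_eq_zero.1 h1 with h2 | h2
    · left
      apply Subtype.ext
      rw [hM, hMp, sub_eq_zero.1 h2, one_smul, map_one]
      rfl
    · right
      apply Subtype.ext
      rw [hM, hMp, eq_neg_of_add_eq_zero_left h2, coe_m1, neg_smul, one_smul, map_neg, map_one]
  · right
    have h1 : (p - iota) * (p + iota) = 0 := by linear_combination h - iota_mul
    show pr A = pr t0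
    rw [pr_eq_iff]
    rcases mul_eq_zero.1 h1 with h2 | h2
    · left
      apply Subtype.ext
      rw [hM, hMp, sub_eq_zero.1 h2]
      exact Phi_iota
    · right
      apply Subtype.ext
      rw [hM, hMp, eq_neg_of_add_eq_zero_left h2, m1_val, neg_smul, map_neg, Phi_iota]

/-- **the condition for `t`** -/
theorem cnd_t : Cnd t := by
  have hf3 : Fact (Nat.Prime 3) := ⟨Nat.prime_three⟩
  intro B hB hBt
  have hBN : B ≤ N := fun b hb => mem_N (hB.2 b hb) (hBt b hb)
  have h27 : ∀ S : Subgroup N, IsPGroup 3 S → Nat.card S ≤ 9 := by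
    intro S hS
    obtain ⟨m, hm⟩ := IsPGroup.iff_card.1 hS
    have h1 : 3 ^ m ∣ 360 := by rw [← hm, ← card_N]; exact card_subgroup_dvd_card S
    have h2 : m ≤ 2 := by
      by_contra hcon
      push Not at hcon
      have h3 := (pow_dvd_pow 3 hcon).trans h1
      revert h3
      norm_num
    rw [hm]
    calc 3 ^ m ≤ 3 ^ 2 := Nat.pow_le_pow_right (by norm_num) h2
      _ = 9 := by norm_num
  have hBp : IsPGroup 3 (B.subgroupOf N) := fun b => ⟨1, Subtype.ext (Subtype.ext (by
    rw [pow_one]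
    exact hB.2 _ b.2))⟩
  have hcB : Nat.card (B.subgroupOf N) = Nat.card B := Nat.card_congr (subgroupOfEquivOfLe hBN).toEquiv
  refine ⟨?_, fun h9 u uu tu hBu => ?_⟩
  · have := h27 _ hBp
    rw [hcB] at this
    omega
  · have hUp : IsPGroup 3 (U.subgroupOf N) := fun b => ⟨1, Subtype.ext (Subtype.ext (by
      rw [pow_one]
      exact U_pow b.2))⟩
    obtain ⟨S, hS⟩ := hBp.exists_le_sylow
    obtain ⟨T, hT⟩ := hUp.exists_le_sylow
    have hBS : B.subgroupOf N = S := eq_of_le_of_card_ge hS (by rw [hcB]; exact (h27 _ S.2).trans h9)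
    obtain ⟨c, hcT⟩ := MulAction.exists_smul_eq N T S
    have hmem : ∀ a : E, (c : L) * phi (up a) * (c : L)⁻¹ ∈ B := by
      intro a
      let w : N := ⟨phi (up a), up a, rfl⟩
      have hw : w ∈ U.subgroupOf N := ⟨a, rfl⟩
      have h1 : c * w * c⁻¹ ∈ (S : Subgroup N) := by
        rw [← hcT]
        exact smul_mem_pointwise_smul w (MulAut.conj c) (T : Subgroup N) (hT hw)
      rw [← hBS] at h1
      exact h1
    have ct : (c : L) * t = t * c := mem_centralizer_singleton_iff.1 (N_le c.2)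
    have cti : t * (c : L)⁻¹ = (c : L)⁻¹ * t := (Commute.inv_left (a := (c : L)) (b := t) ct).eq.symm
    set v : L := (c : L)⁻¹ * u * c with hv
    have vt : v * t = t * v := by
      calc v * t = (c : L)⁻¹ * u * (c * t) := by rw [hv]; group
        _ = (c : L)⁻¹ * (u * t) * c := by rw [ct]; group
        _ = ((c : L)⁻¹ * t) * u * c := by rw [← tu]; group
        _ = t * v := by rw [← cti, hv]; group
    have vv : v * v = 1 := by
      calc v * v = (c : L)⁻¹ * (u * u) * c := by rw [hv]; group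
        _ = 1 := by rw [uu]; group
    have hu : u = c * v * (c : L)⁻¹ := by rw [hv]; group
    rcases cent_U vv vt (fun a => by
      have h1 := hBu _ (hmem a)
      calc v * phi (up a) = (c : L)⁻¹ * (u * (c * phi (up a) * (c : L)⁻¹)) * c := by rw [hv]; group
        _ = (c : L)⁻¹ * ((c * phi (up a) * (c : L)⁻¹) * u) * c := by rw [h1]
        _ = phi (up a) * v := by rw [hv]; group) with h | h
    · left
      rw [hu, h]; group
    · right
      rw [hu, h, ct, mul_inv_cancel_right]

/-- **the condition for `pr T`** -/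
theorem cnd_T : Cnd (pr T) := by
  have P := KFacts.LFourThree.case9aa
  have hfin : Finite KFacts.LFourThree.L := Nat.finite_of_card_ne_zero (by rw [KFacts.LFourThree.card_L]; norm_num)
  have h := cnd_of_plus P.toPlus P.x₁_act P.x₂_act P.x₁3 P.x₂3 P.xx (by rw [P.card_cent]; norm_num)
  have h1 := h.map (pslEquiv (F := F3))
  have h2 : pslEquiv (F := F3) KFacts.LFourThree.z = pr T := by
    rw [← reindex_eZ]
    rfl
  rwa [h2] at h1

theorem twoLocal : TwoLocalPRankLE 3 2 L := by
  have hfin : Finite L := Nat.finite_of_card_ne_zero (by rw [card_L]; norm_num)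
  refine twoLocal_le_of_cnd fun x hx => ?_
  obtain ⟨g, s, hs, rfl⟩ := classes x hx
  rcases hs with rfl | rfl
  · exact cnd_T.conj g
  · exact cnd_t.conj g

theorem nd_l43 : ∀ p : ℕ, p.Prime → p ≠ 2 → p ≠ 3 → ¬ p ^ 4 ∣ 6065280 :=
  not_four_dvd_three 18 3 [5, 13] (by norm_num) (by simp only [List.forall_mem_cons]; norm_num)

theorem kill_l43 : Kill.{u} (fun X _ => PslOdd (fun n q => n = 4 ∧ q = 3) X) := by
  rintro G _ _ ⟨F, _, _, n, -, ⟨rfl, hF⟩, ⟨e⟩⟩ p hp hp2 h4
  obtain ⟨f⟩ := LargeExtra.W2.LFour.PslFacts.psl_congr F hF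
  have e' : L ≃* G := ((pslEquiv (F := F3)).symm.trans f).trans e.symm
  by_cases hp3 : p = 3
  · subst hp3
    exact Sigma.Pair.twoLocalPRankLE_congr e' twoLocal
  · refine absurd h4 (not_atLeast_of_not_dvd hp ?_)
    rw [← Nat.card_congr e'.toEquiv, card_L]
    exact nd_l43 p hp hp2 hp3

end Cfsg.Agent.BiChar.Small.LFour

end

-- merged: Cfsg.Agent.BiChar.SmallSig
section

/-!
# The small rows of the tables of S1798 and of S1805 - S1807 (helper23)

* `killSmall` : `KillSmall`;
* `sig0_*`    : rows of `SigTab.Sig0Lie`, `SigTab.Sig0Spor`.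
-/

set_option autoImplicit false

namespace Cfsg.Agent.BiChar.Small

open Cfsg Cfsg.Agent.SevenCases Cfsg.Agent.SigTab

universe u

/-- **The small groups in the table of S1798.** -/
theorem killSmall : KillSmall.{u} where
  alt := kill_alt
  l43 := LFour.kill_l43
  u43 := kill_u43
  g23 := kill_g23
  m11 := kill_m11
  m12 := kill_m12
  m22 := kill_m22
  m23 := kill_m23
  m24 := kill_m24
  j1 := kill_j1
  j2 := kill_j2
  j3 := kill_j3
  j4 := kill_j4
  hs := kill_hs
  he := kill_he
  ru := kill_ru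

theorem sig0_l43 : Sig0.{u} (fun X _ => PslOdd (fun n q => n = 4 ∧ q = 3) X) := sig0_of_kill LFour.kill_l43
theorem sig0_u43 : Sig0.{u} (fun X _ => PsuOdd (fun n q => n = 4 ∧ q = 3) X) := sig0_of_kill kill_u43
theorem sig0_g23 : Sig0.{u} (fun X _ => GTwoOdd (fun q => q = 3) X) := sig0_of_kill kill_g23
theorem sig0_m22 : Sig0.{u} (fun X _ => Spor.IsoM22 X) := sig0_of_kill kill_m22
theorem sig0_m23 : Sig0.{u} (fun X _ => Spor.IsoM23 X) := sig0_of_kill kill_m23
theorem sig0_m24 : Sig0.{u} (fun X _ => Spor.IsoM24 X) := sig0_of_kill kill_m24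
theorem sig0_j2 : Sig0.{u} (fun X _ => Spor.IsoJ2 X) := sig0_of_kill kill_j2
theorem sig0_j3 : Sig0.{u} (fun X _ => Spor.IsoJ3 X) := sig0_of_kill kill_j3
theorem sig0_j4 : Sig0.{u} (fun X _ => Spor.IsoJ4 X) := sig0_of_kill kill_j4
theorem sig0_hs : Sig0.{u} (fun X _ => Spor.IsoHS X) := sig0_of_kill kill_hs
theorem sig0_he : Sig0.{u} (fun X _ => Spor.IsoHe X) := sig0_of_kill kill_he
theorem sig0_ru : Sig0.{u} (fun X _ => Spor.IsoRu X) := sig0_of_kill kill_ru

end Cfsg.Agent.BiChar.Small

end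

private theorem dce_ea344ee6941b : _root_.True := by
  try have : _root_.True := by simp only [_root_.Cfsg.Agent.ResEven.LFour.up.eq_1]
  exact _root_.True.intro
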