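import Cfsg.Agent.PreUniq.LowExc.TwF4Torus
import Cfsg.Agent.BiChar.SmallTools_m3
import Cfsg.Agent.S1068
import Cfsg.Agent.Prune
set_option linter.all false
prune_inst 0x7f00000000000000000000000000000000000000000000000000000000000000000000000000000000000000000000000000000000000000000000000000000000000000000000000000000000000000003fffffffffffffffffffffffffffbeffbdffffffff
open scoped Cfsg.Agent.FastGrp

/-!
# `²F₄(q)`, `q ≥ 8`: every 2-local subgroup has odd ranks at most two (helper11)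

From `PreUniq/LowExc` (helper16): for `p ∣ q - 1` the torus contains a Sylow `p`-subgroup; for `p ∤ q - 1` no elementary
abelian group of order `p²` centralises an involution.
-/

set_option autoImplicit false

namespace Cfsg.Agent.BiChar.TwFFour

open Cfsg Cfsg.Agent.Sigma.Pair

universe u

/-- a subgroup of order `p ^ 2` -/
theorem exists_sub {G : Type*} [Group G] [Finite G] {p : ℕ} (hp : p.Prime) {B : Subgroup G}
    (hB : IsMulCommutative B) (hBp : ∀ b ∈ B, b ^ p = 1) (hc : p ^ 2 ≤ Nat.card B) :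
    ∃ E : Subgroup G, E ≤ B ∧ IsElementaryAbelian p E ∧ Nat.card E = p ^ 2 := by
  have := Fact.mk hp
  obtain ⟨n, hn⟩ := card_eq_pow hp hBp
  have h2 : 2 ≤ n := by
    rw [hn] at hc
    exact (Nat.pow_le_pow_iff_right hp.one_lt).1 hc
  obtain ⟨K, hK⟩ := Sylow.exists_subgroup_card_pow_prime p (n := 2) (G := B) (by rw [hn]; exact pow_dvd_pow p h2)
  have hle : K.map B.subtype ≤ B := by
    rintro _ ⟨k, -, rfl⟩
    exact k.2
  refine ⟨K.map B.subtype, hle, ⟨⟨⟨?_⟩⟩, fun a ha => hBp a (hle ha)⟩, ?_⟩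
  · rintro ⟨a, ha⟩ ⟨b, hb⟩
    have h1 : a * b = b * a := congrArg Subtype.val (hB.is_comm.comm ⟨a, hle ha⟩ ⟨b, hle hb⟩)
    apply Subtype.ext
    exact h1
  · rw [Subgroup.card_map_of_injective B.subtype_injective, hK]

theorem twoLocal {K : Type} [Field K] [Fintype K] {m : ℕ} (hm : 1 ≤ m) (hK : Fintype.card K = 2 ^ (2 * m + 1))
    {p : ℕ} (hp : p.Prime) (hp2 : p ≠ 2) : TwoLocalPRankLE p 2 ↥(Lie.twistedF4 K (2 ^ m)) := by
  by_cases hpq : p ∣ Nat.card K - 1
  · have h := PreUniq.LowExc.TwF4.pRankLE_twistedF4 hm hK hp hp2 hpq (Cfsg.Agent.S1068.result hK)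
    intro M _ A hA hAp
    have h1 : Nat.card (A.map M.subtype) = Nat.card A := Subgroup.card_map_of_injective M.subtype_injective
    rw [← h1]
    refine h _ ?_ ?_
    · refine ⟨⟨?_⟩⟩
      rintro ⟨_, a, ha, rfl⟩ ⟨_, b, hb, rfl⟩
      have h3 : a * b = b * a := congrArg Subtype.val (hA.is_comm.comm ⟨a, ha⟩ ⟨b, hb⟩)
      apply Subtype.ext
      have h4 : (a : ↥(Lie.twistedF4 K (2 ^ m))) * b = b * a := congrArg Subtype.val h3
      exact h4
    · rintro _ ⟨a, ha, rfl⟩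
      exact congrArg Subtype.val (hAp a ha)
  · have key : ∀ (z : ↥(Lie.twistedF4 K (2 ^ m))) (B : Subgroup ↥(Lie.twistedF4 K (2 ^ m))), z ≠ 1 → z * z = 1 →
        IsMulCommutative B → (∀ b ∈ B, b ^ p = 1) → (∀ b ∈ B, b * z = z * b) → p ^ 2 ≤ Nat.card B → False := by
      intro z B hz hzz hB hBp hBz hc
      obtain ⟨E, hEB, hE, hEc⟩ := exists_sub hp hB hBp hc
      exact PreUniq.LowExc.TwF4.not_pair_twistedF4 hm hK hp hp2 hpq hE hEc hzz hz fun e he => hBz e (hEB he)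
    refine twoLocalPRankLE_of hp hp2 (fun z hz hzz A hA hAp hAz hc => ?_) fun z a B hz hzz _ _ _ hB hBp _ hBz hc => ?_
    · exact key z A hz hzz hA hAp hAz ((Nat.pow_le_pow_right hp.pos (by norm_num)).trans hc)
    · exact key z B hz hzz hB hBp hBz hc

theorem twoLocal_of {G : Type u} [Group G] (h : Lie.Iso2F4 G) {p : ℕ} (hp : p.Prime) (hp2 : p ≠ 2) :
    TwoLocalPRankLE p 2 G := by
  obtain ⟨K, _, _, m, hm, hK, ⟨e⟩⟩ := h
  exact twoLocalPRankLE_congr e.symm (twoLocal hm hK hp hp2)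

/-- row `f4` of `BiChar.KillLie` -/
theorem kill : Kill.{u} (fun X _ => Lie.Iso2F4 X) := fun _ _ _ h _ hp hp2 _ => twoLocal_of h hp hp2

/-- row `ree` of `SigTab.Sig0Lie` -/
theorem sig0 : SigTab.Sig0.{u} (fun X _ => Lie.Iso2F4 X) := fun _ _ _ h =>
  SigTool.sigma_empty fun _ hp hp2 => twoLocal_of h hp hp2

end Cfsg.Agent.BiChar.TwFFour
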